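import Cfsg.Agent.Lib.Spor.GLTwoAmalgam.Facts
import Cfsg.Agent.Lib.Spor.GLTwoAmalgam.EOne.All
import Cfsg.Agent.Lib.Spor.GLTwoAmalgam.EZeroF.All
import Cfsg.Agent.Lib.Spor.GLTwoAmalgam.EZeroG.All
import Cfsg.Agent.Lib.Spor.GLTwoAmalgam.Deep00.All
import Cfsg.Agent.Lib.Spor.GLTwoAmalgam.Deep01.All
import Cfsg.Agent.Lib.Spor.GLTwoAmalgam.Deep10.All
import Cfsg.Agent.Lib.Spor.GLTwoAmalgam.Deep11.All

/-!
# Cases in which `[n, m]` falls into the first side
-/

set_option autoImplicit false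

namespace CfsgLib.Spor.GLTwoAmalgam

open CfsgLib.Spor.TC

variable {G : Type*} [Group G]

/-- `t` or `1`. -/
def tv (F : Frame G) : Bool → G
  | false => 1
  | true => F.t

namespace Frame

variable (F : Frame G)

theorem gvG_inv : ∀ x, F.gvG (invLetter 14 x) = (F.gvG x)⁻¹ := gv_inv _ _ _ _ _ _ _

theorem ev_n : ev F.gvG [10] = F.n := by simp [ev, gvG, gv]

theorem ev_e : ev F.gvG [12] = F.e := by simp [ev, gvG, gv]

theorem ev_z : ev F.gvG [8] = F.z := by simp [ev, gvG, gv]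

theorem ev_m : ev F.gvG wm = F.m := by simp [ev, gvG, gv, wm, m, mul_assoc]

theorem ev_r : ev F.gvG wr = F.r := by simp [ev, gvG, gv, wr, r, cj, mul_assoc]

theorem ev_s : ev F.gvG ws = F.s := by simp [ev, gvG, gv, ws, s, cj, m, mul_assoc]

theorem ev_wt (b : Bool) : ev F.gvG (wt b) = tv F b := by
  cases b
  · rfl
  · simp [ev, gvG, gv, wt, tv, ← F.n_sq]

/-- `[n, s] (e^(z²))⁻¹`. -/
def D : G := cm F.n F.s * (cj F.e (F.z * F.z))⁻¹

theorem ev_wd0 : ev F.gvG wd0 = F.D := by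
  rw [wd0, ev_append, ev_wcom F.gvG_inv, ev_winv F.gvG_inv, ev_n, ev_s]
  congr 2
  simp [ev, gvG, gv, cj, mul_assoc]

theorem t_comm_cases {x : G} (hx : x = 1 ∨ x = F.t) {u : G} (hu : Commute F.t u) : cm x u = 1 := by
  rcases hx with rfl | rfl
  · simp [cm]
  · rw [cm, mul_assoc _ F.t u, hu.eq]; group

theorem sq_cases {x : G} (hx : x = 1 ∨ x = F.t) : x * x = 1 := by
  rcases hx with rfl | rfl
  · simp
  · exact F.t_sq

theorem dRels_one (hD : F.D = 1 ∨ F.D = F.t) : ∀ w ∈ dRels, ev F.gvG w = 1 := by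
  intro w hw
  simp only [dRels, List.mem_cons, List.not_mem_nil, or_false] at hw
  rcases hw with rfl | rfl | rfl | rfl
  · rw [ev_append, ev_wd0]; exact F.sq_cases hD
  · rw [ev_wcom F.gvG_inv, ev_wd0, ev_n]; exact F.t_comm_cases hD F.t_comm_n
  · rw [ev_wcom F.gvG_inv, ev_wd0, ev_m]; exact F.t_comm_cases hD F.t_comm_m
  · rw [ev_wcom F.gvG_inv, ev_wd0, ev_z]; exact F.t_comm_cases hD F.t_comm_z

theorem tv_sq (b : Bool) : tv F b * tv F b = 1 := by
  cases b
  · exact one_mul _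
  · exact F.t_sq

theorem rel_one {w : List ℕ} {x : G} {b : Bool} (hw : ev F.gvG w = x) (hx : x = tv F b) :
    ev F.gvG (w ++ wt b) = 1 := by
  rw [ev_append, hw, ev_wt, hx, tv_sq]

theorem subA_mem : ∀ w ∈ subA, ev F.gvG w ∈ F.A := by
  intro w hw
  simp only [subA, List.mem_cons, List.not_mem_nil, or_false] at hw
  rcases hw with rfl | rfl | rfl | rfl | rfl
  · simpa [ev, gvG, gv] using F.aA
  · simpa [ev, gvG, gv] using F.bA
  · simpa [ev, gvG, gv] using F.gA
  · simpa [ev, gvG, gv, ← F.h_eq] using F.hA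
  · simpa [ev, gvG, gv] using F.zA

/-- A certificate tracing `e` into the first side. -/
theorem e_mem_of_cert {C : Cert} {nE code : ℕ} {target : List ℕ} (hk : C.k = 14)
    (hsteps : C.SStepsOK 0 nE) (htr : C.sTraceOK nE target code = true) (htg : target = [12])
    (extra : List (List ℕ)) (hsub : C.subs = subA)
    (hr : ∀ w ∈ C.rels, w ∈ (baseRels ++ extra).map (freeReduce 14))
    (hex : ∀ w ∈ extra, ev F.gvG w = 1) : F.e ∈ F.A := by
  have hg : ∀ x, F.gvG (invLetter C.k x) = (F.gvG x)⁻¹ := hk ▸ F.gvG_inv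
  have h := Cert.mem_of_sTrace hsteps htr F.gvG hg (hk ▸ gv_empty _ _ _ _ _ _ _)
    (fun w hw => by
      obtain ⟨v, hv, rfl⟩ := List.mem_map.1 (hr w hw)
      rw [← hk, ev_freeReduce C hg]
      rcases List.mem_append.1 hv with hv | hv
      · exact F.baseRels_one v hv
      · exact hex v hv)
    F.A (hsub ▸ F.subA_mem)
  rwa [htg, ev_e] at h

/-- `[e, n]`, `[e, m]` and `e²` all equal to `t`. -/
theorem e_mem_one (h1 : cm F.e F.n = F.t) (h2 : cm F.e F.m = F.t) (h3 : F.e * F.e = F.t) : F.e ∈ F.A := by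
  refine F.e_mem_of_cert rfl EOne.steps_ok EOne.trace (by decide)
    [wcom [12] [10] ++ wt true, wcom [12] wm ++ wt true, [12, 12] ++ wt true] (by decide)
    (by decide +kernel) ?_
  intro w hw
  simp only [List.mem_cons, List.not_mem_nil, or_false] at hw
  rcases hw with rfl | rfl | rfl
  · exact F.rel_one (b := true) (by rw [ev_wcom F.gvG_inv, ev_e, ev_n]) h1
  · exact F.rel_one (b := true) (by rw [ev_wcom F.gvG_inv, ev_e, ev_m]) h2
  · exact F.rel_one (b := true) (by simp [ev, gvG, gv]) h3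

/-- The relations common to the cases with `e² = 1`. -/
theorem zero_rels (h1 : cm F.e F.n = 1) (h2 : cm F.e F.m = 1) (h3 : F.e * F.e = 1) :
    ev F.gvG (wcom [12] [10]) = 1 ∧ ev F.gvG (wcom [12] wm) = 1 ∧ ev F.gvG [12, 12] = 1 :=
  ⟨by rw [ev_wcom F.gvG_inv, ev_e, ev_n, h1], by rw [ev_wcom F.gvG_inv, ev_e, ev_m, h2],
    by simpa [ev, gvG, gv] using h3⟩

/-- `e² = 1` and `[e, r] = t`. -/
theorem e_mem_f (h1 : cm F.e F.n = 1) (h2 : cm F.e F.m = 1) (h3 : F.e * F.e = 1) (h4 : cm F.e F.r = F.t)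
    (hD : F.D = 1 ∨ F.D = F.t) : F.e ∈ F.A := by
  refine F.e_mem_of_cert rfl EZeroF.steps_ok EZeroF.trace (by decide)
    ([wcom [12] [10], wcom [12] wm, [12, 12], wcom [12] wr ++ wt true] ++ dRels) (by decide)
    (by decide +kernel) ?_
  intro w hw
  rcases List.mem_append.1 hw with hw | hw
  · simp only [List.mem_cons, List.not_mem_nil, or_false] at hw
    obtain ⟨e1, e2, e3⟩ := F.zero_rels h1 h2 h3
    rcases hw with rfl | rfl | rfl | rfl
    · exact e1
    · exact e2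
    · exact e3
    · exact F.rel_one (b := true) (by rw [ev_wcom F.gvG_inv, ev_e, ev_r]) h4
  · exact F.dRels_one hD w hw

/-- `e² = 1`, `[e, r] = 1` and `[e, s] = t`. -/
theorem e_mem_g (h1 : cm F.e F.n = 1) (h2 : cm F.e F.m = 1) (h3 : F.e * F.e = 1) (h4 : cm F.e F.r = 1)
    (h5 : cm F.e F.s = F.t) (hD : F.D = 1 ∨ F.D = F.t) : F.e ∈ F.A := by
  refine F.e_mem_of_cert rfl EZeroG.steps_ok EZeroG.trace (by decide)
    ([wcom [12] [10], wcom [12] wm, [12, 12], wcom [12] wr, wcom [12] ws ++ wt true] ++ dRels) (by decide)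
    (by decide +kernel) ?_
  intro w hw
  rcases List.mem_append.1 hw with hw | hw
  · simp only [List.mem_cons, List.not_mem_nil, or_false] at hw
    obtain ⟨e1, e2, e3⟩ := F.zero_rels h1 h2 h3
    rcases hw with rfl | rfl | rfl | rfl | rfl
    · exact e1
    · exact e2
    · exact e3
    · rw [ev_wcom F.gvG_inv, ev_e, ev_r, h4]
    · exact F.rel_one (b := true) (by rw [ev_wcom F.gvG_inv, ev_e, ev_s]) h5
  · exact F.dRels_one hD w hw

/-- The word of `y` or of `y h`. -/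
def wy : Bool → List ℕ
  | false => [7, 12, 6]
  | true => [7, 12, 6, 4, 4]

/-- `y = e^g`, or `y h`. -/
def yv : Bool → G
  | false => cj F.e F.g
  | true => cj F.e F.g * F.h

theorem ev_wy (b : Bool) : ev F.gvG (wy b) = F.yv b := by
  cases b <;> simp [ev, gvG, gv, wy, yv, cj, F.h_eq, mul_assoc]

theorem deep_rels (yo ns : Bool) (h1 : cm F.e F.n = 1) (h2 : cm F.e F.m = 1) (h3 : F.e * F.e = 1)
    (h4 : cm F.e F.r = 1) (h5 : cm F.e F.s = 1) (h6 : nrm (F.yv yo) F.z = tv F ns) :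
    ∀ w ∈ [wcom [12] [10], wcom [12] wr, wcom [12] wm, wcom [12] ws, [12, 12],
      wnrm (wy yo) ++ wt ns], ev F.gvG w = 1 := by
  intro w hw
  simp only [List.mem_cons, List.not_mem_nil, or_false] at hw
  obtain ⟨e1, e2, e3⟩ := F.zero_rels h1 h2 h3
  rcases hw with rfl | rfl | rfl | rfl | rfl | rfl
  · exact e1
  · rw [ev_wcom F.gvG_inv, ev_e, ev_r, h4]
  · exact e2
  · rw [ev_wcom F.gvG_inv, ev_e, ev_s, h5]
  · exact e3
  · refine F.rel_one (b := ns) ?_ h6
    have hzz : ev F.gvG [8, 8] = F.z * F.z := by simp [ev, gvG, gv]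
    rw [wnrm, ev_append, ev_append, ev_wcj F.gvG_inv, ev_wcj F.gvG_inv, ev_z, hzz, ev_wy, nrm]

/-- The case in which `e` commutes with `n, r, m, s`. -/
theorem e_mem_deep (h1 : cm F.e F.n = 1) (h2 : cm F.e F.m = 1) (h3 : F.e * F.e = 1)
    (h4 : cm F.e F.r = 1) (h5 : cm F.e F.s = 1)
    (h6 : ∃ yo ns : Bool, nrm (F.yv yo) F.z = tv F ns) : F.e ∈ F.A := by
  obtain ⟨yo, ns, h6⟩ := h6
  have hex := F.deep_rels yo ns h1 h2 h3 h4 h5 h6
  cases yo <;> cases ns
  · exact F.e_mem_of_cert rfl Deep00.steps_ok Deep00.trace (by decide) _ (by decide) (by decide +kernel) hex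
  · exact F.e_mem_of_cert rfl Deep01.steps_ok Deep01.trace (by decide) _ (by decide) (by decide +kernel) hex
  · exact F.e_mem_of_cert rfl Deep10.steps_ok Deep10.trace (by decide) _ (by decide) (by decide +kernel) hex
  · exact F.e_mem_of_cert rfl Deep11.steps_ok Deep11.trace (by decide) _ (by decide) (by decide +kernel) hex

end Frame

end CfsgLib.Spor.GLTwoAmalgam
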