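import Cfsg.Agent.Lib.Spor.GLTwoAmalgam.Words
import Mathlib.GroupTheory.SpecificGroups.Alternating
import Mathlib.LinearAlgebra.Matrix.ProjectiveSpecialLinearGroup
import Mathlib.Data.ZMod.Basic
import Mathlib.Tactic.Ring
import Mathlib.Data.Fintype.Perm
import Mathlib.Logic.Equiv.Fintype

/-!
# Computations in `S₃`, `A₅` and `L₂(7)`
-/

set_option autoImplicit false

namespace CfsgLib.Spor.GLTwoAmalgam

open Equiv

theorem s3_zpz : ∀ Z P : Perm (Fin 3), Z * Z * Z = 1 → P * P * P = 1 →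
    (Z * P * Z) * (Z * P * Z) = 1 → Z * P * Z = 1 := by decide +kernel

set_option synthInstance.maxSize 1024 in
set_option maxSynthPendingDepth 5 in
theorem s3_centralizer : ∀ Z H Y : Perm (Fin 3), Z ≠ 1 → Z * Z * Z = 1 → H * Z * H⁻¹ = Z⁻¹ →
    Y * H = H * Y → Y = 1 ∨ Y = H := by decide +kernel

set_option maxRecDepth 4000 in
set_option synthInstance.maxSize 1024 in
set_option maxSynthPendingDepth 5 in
theorem a5_trivial : ∀ Z : alternatingGroup (Fin 5), Z ≠ 1 → Z * Z * Z = 1 →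
    ∀ H : alternatingGroup (Fin 5), H * Z * H⁻¹ = Z⁻¹ →
    ∀ N : alternatingGroup (Fin 5), N * N = 1 → N * H = H * N →
      N * (Z⁻¹ * N * Z) = (Z⁻¹ * N * Z) * N → N = 1 := by decide +kernel

/-- A matrix `(a b; c d)` over seven elements, with natural entries. -/
abbrev Q7 : Type := ℕ × ℕ × ℕ × ℕ

/-- The product. -/
def qmul : Q7 → Q7 → Q7
  | (a, b, c, d), (a', b', c', d') =>
    ((a * a' + b * c') % 7, (a * b' + b * d') % 7, (c * a' + d * c') % 7, (c * b' + d * d') % 7)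

/-- The adjugate. -/
def qinv : Q7 → Q7
  | (a, b, c, d) => (d % 7, (7 - b) % 7, (7 - c) % 7, a % 7)

/-- Equal up to sign. -/
def qeq : Q7 → Q7 → Bool
  | (a, b, c, d), (a', b', c', d') =>
    (a == a' && b == b' && c == c' && d == d') ||
      (a == (7 - a') % 7 && b == (7 - b') % 7 && c == (7 - c') % 7 && d == (7 - d') % 7)

/-- One matrix of determinant one from each pair. -/
def l27 : List Q7 :=
  ((List.range 7).flatMap fun a => (List.range 7).flatMap fun b => (List.range 7).flatMap fun c =>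
    (List.range 7).map fun d => (a, b, c, d)).filter fun
  | (a, b, c, d) => (a * d + 6 * b * c) % 7 == 1 && ((1 ≤ a && a ≤ 3) || (a == 0 && 1 ≤ b && b ≤ 3))

/-- The conditions on the image of `n`. -/
def qcond (z h n : Q7) : Bool :=
  qeq (qmul n n) (1, 0, 0, 1) && qeq (qmul n h) (qmul h n) &&
    qeq (qmul n (qmul (qmul (qinv z) n) z)) (qmul (qmul (qmul (qinv z) n) z) n)

/-- The statement for a pair `z, h`. -/
def qcheck (z h : Q7) : Bool :=
  let ns := l27.filter (qcond z h)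
  ns.all fun n => ns.all fun m =>
    (qeq (qmul n m) (qmul m n) &&
      qeq (qmul n (qmul (qmul (qinv z) m) z)) (qmul (qmul (qmul (qinv z) m) z) n)) ||
    qeq (qmul (qmul (qmul (qinv n) (qinv m)) n) m) h

theorem l27_check : (l27.filter fun z => qeq (qmul (qmul z z) z) (1, 0, 0, 1) && !(qeq z (1, 0, 0, 1))).all
    (fun z => (l27.filter fun h => qeq (qmul (qmul h z) (qinv h)) (qinv z)).all fun h => qcheck z h)
      = true := by decide +kernel

theorem l27_cover : ∀ a b c d : Fin 7, (a.val * d.val + 6 * b.val * c.val) % 7 = 1 →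
    l27.any (fun q => qeq q (a.val, b.val, c.val, d.val)) = true := by decide +kernel

open Matrix

/-- The natural entries of a matrix. -/
def qvals (X : SpecialLinearGroup (Fin 2) (ZMod 7)) : Q7 :=
  ((X.1 0 0).val, (X.1 0 1).val, (X.1 1 0).val, (X.1 1 1).val)

theorem qvals_mul (X Y : SpecialLinearGroup (Fin 2) (ZMod 7)) :
    qvals (X * Y) = qmul (qvals X) (qvals Y) := by
  have key : ∀ a b c d : ZMod 7, (a * b + c * d).val = (a.val * b.val + c.val * d.val) % 7 := by
    intro a b c d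
    rw [ZMod.val_add, ZMod.val_mul, ZMod.val_mul, ← Nat.add_mod]
  simp only [qvals, qmul, SpecialLinearGroup.coe_mul, Matrix.mul_apply, Fin.sum_univ_two, key]

theorem qvals_inv (X : SpecialLinearGroup (Fin 2) (ZMod 7)) : qvals X⁻¹ = qinv (qvals X) := by
  have k1 : ∀ a : ZMod 7, a.val % 7 = a.val := by decide
  have k2 : ∀ a : ZMod 7, (-a).val = (7 - a.val) % 7 := by decide
  simp [qvals, qinv, SpecialLinearGroup.coe_inv, Matrix.adjugate_fin_two, k1, k2]

theorem qvals_one : qvals 1 = (1, 0, 0, 1) := rfl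

theorem qvals_neg (X : SpecialLinearGroup (Fin 2) (ZMod 7)) : qvals (-X) =
    ((7 - (qvals X).1) % 7, (7 - (qvals X).2.1) % 7, (7 - (qvals X).2.2.1) % 7,
      (7 - (qvals X).2.2.2) % 7) := by
  have k2 : ∀ a : ZMod 7, (-a).val = (7 - a.val) % 7 := by decide
  simp [qvals, k2]

theorem qvals_injective : Function.Injective qvals := by
  intro X Y e
  simp only [qvals, Prod.mk.injEq, (ZMod.val_injective 7).eq_iff] at e
  obtain ⟨e1, e2, e3, e4⟩ := e
  ext i j
  fin_cases i <;> fin_cases j <;> assumption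

/-- The projection to `L₂(7)`. -/
abbrev prSeven : SpecialLinearGroup (Fin 2) (ZMod 7) →* ProjectiveSpecialLinearGroup (Fin 2) (ZMod 7) :=
  QuotientGroup.mk' _

theorem prSeven_neg (X : SpecialLinearGroup (Fin 2) (ZMod 7)) : prSeven (-X) = prSeven X := by
  refine (QuotientGroup.eq).2 ?_
  rw [SpecialLinearGroup.mem_center_iff]
  refine ⟨-1, by decide, ?_⟩
  rw [show (-X)⁻¹ * X = -1 from inv_mul_eq_of_eq_mul (by
    rw [mul_neg, mul_one, neg_neg])]
  ext i j
  fin_cases i <;> fin_cases j <;> simp [Matrix.scalar]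

theorem qeq_iff (X Y : SpecialLinearGroup (Fin 2) (ZMod 7)) :
    qeq (qvals X) (qvals Y) = true ↔ prSeven X = prSeven Y := by
  have h : qeq (qvals X) (qvals Y) = true ↔ X = Y ∨ X = -Y := by
    rw [← qvals_injective.eq_iff, ← qvals_injective.eq_iff (a := X) (b := -Y), qvals_neg]
    simp [qeq, qvals, and_assoc]
  rw [h]
  constructor
  · rintro (rfl | rfl)
    · rfl
    · exact prSeven_neg _
  · intro e
    obtain ⟨c, hc, hXc⟩ : ∃ c ∈ Subgroup.center (SpecialLinearGroup (Fin 2) (ZMod 7)), Y = X * c :=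
      ⟨X⁻¹ * Y, (QuotientGroup.eq).1 e, (mul_inv_cancel_left X Y).symm⟩
    obtain ⟨r, hr, hrc⟩ := SpecialLinearGroup.mem_center_iff.1 hc
    have key : ∀ r : ZMod 7, r ^ 2 = 1 → r = 1 ∨ r = -1 := by decide
    have hr' : r = 1 ∨ r = -1 := key r (by simpa using hr)
    rcases hr' with rfl | rfl
    · left
      have : c = 1 := Subtype.ext (by rw [← hrc]; simp)
      rw [hXc, this, mul_one]
    · right
      have : c = -1 := Subtype.ext (by
        rw [← hrc]; ext i j; fin_cases i <;> fin_cases j <;> simp [Matrix.scalar])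
      rw [hXc, this, mul_neg, mul_one, neg_neg]

theorem exists_rep (x : ProjectiveSpecialLinearGroup (Fin 2) (ZMod 7)) :
    ∃ X, prSeven X = x ∧ qvals X ∈ l27 := by
  obtain ⟨X, rfl⟩ := QuotientGroup.mk'_surjective _ x
  have hdet := X.2
  rw [Matrix.det_fin_two] at hdet
  have hd : ((X.1 0 0).val * (X.1 1 1).val + 6 * (X.1 0 1).val * (X.1 1 0).val) % 7 = 1 := by
    have key : ∀ a b c d : ZMod 7, a * d - b * c = 1 → (a.val * d.val + 6 * b.val * c.val) % 7 = 1 := by
      decide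
    exact key _ _ _ _ hdet
  have hc := l27_cover ⟨_, ZMod.val_lt (X.1 0 0)⟩ ⟨_, ZMod.val_lt (X.1 0 1)⟩ ⟨_, ZMod.val_lt (X.1 1 0)⟩
    ⟨_, ZMod.val_lt (X.1 1 1)⟩ hd
  obtain ⟨q, hq, hqe⟩ := List.any_eq_true.1 hc
  change qeq q (qvals X) = true at hqe
  obtain ⟨a, b, c, d⟩ := q
  have hh : (a, b, c, d) = qvals X ∨ (a, b, c, d) = qvals (-X) := by
    rw [qvals_neg]
    simpa [qeq, qvals, and_assoc] using hqe
  rcases hh with e | e
  · exact ⟨X, rfl, e ▸ hq⟩
  · exact ⟨-X, prSeven_neg X, e ▸ hq⟩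

/-- The images of `n` and `m` when the centralizer is `L₂(7)`. -/
theorem l27_cases (z h n m : ProjectiveSpecialLinearGroup (Fin 2) (ZMod 7)) (hz : z * z * z = 1)
    (hz1 : z ≠ 1) (hh : h * z * h⁻¹ = z⁻¹) (hn : n * n = 1) (hnh : n * h = h * n)
    (hnz : n * (z⁻¹ * n * z) = z⁻¹ * n * z * n) (hm : m * m = 1) (hmh : m * h = h * m)
    (hmz : m * (z⁻¹ * m * z) = z⁻¹ * m * z * m) :
    (n * m = m * n ∧ n * (z⁻¹ * m * z) = z⁻¹ * m * z * n) ∨ n⁻¹ * m⁻¹ * n * m = h := by
  obtain ⟨Z, rfl, hZ⟩ := exists_rep z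
  obtain ⟨H, rfl, hH⟩ := exists_rep h
  obtain ⟨N, rfl, hN⟩ := exists_rep n
  obtain ⟨M, rfl, hM⟩ := exists_rep m
  simp only [← map_mul, ← map_inv, ← qeq_iff, qvals_mul, qvals_inv] at *
  rw [← map_one prSeven, ← qeq_iff, qvals_mul, qvals_mul, qvals_one] at hz
  rw [Ne, ← map_one prSeven, ← qeq_iff, qvals_one] at hz1
  rw [← map_one prSeven, ← qeq_iff, qvals_mul, qvals_one] at hn hm
  have h0 := l27_check
  simp only [List.all_eq_true, List.mem_filter, Bool.and_eq_true, Bool.not_eq_true', and_imp] at h0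
  have h1 := h0 _ hZ hz (by simpa using hz1) _ hH hh
  simp only [qcheck, List.all_eq_true, List.mem_filter, Bool.or_eq_true, Bool.and_eq_true, qcond, and_imp] at h1
  exact h1 _ hN hn hnh hnz _ hM hm hmh hmz

end CfsgLib.Spor.GLTwoAmalgam
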