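import Cfsg.Agent.Lib.Spor.GLTwoAmalgam.Cases
import Cfsg.Agent.Lib.Spor.GLTwoAmalgam.Small
import Cfsg.Agent.Lib.Char.SelfCentThree.Main
import Cfsg.Agent.S3779
import Mathlib.GroupTheory.FixedPointFree

/-!
# The centralizer of the involution `t`
-/

set_option autoImplicit false

namespace CfsgLib.Spor.GLTwoAmalgam

open Subgroup CfsgLib.Spor.TC
open scoped commutatorElement

/-- The facts used about a group of class two with a fixed-point-free automorphism of order three. -/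
theorem fpf_three_facts {N : Type*} [Group N] [Finite N] (φ : MulAut N) (h3 : ∀ x, φ (φ (φ x)) = x)
    (hfpf : ∀ x, φ x = x → x = 1) :
    (∀ x, x * φ x * φ (φ x) = 1) ∧ (∀ a b c : N, cm (cm a b) c = 1) ∧
      ∀ a b : N, cm a (φ b) = φ (φ (cm a b)) := by
  have hnorm : ∀ x, x * φ x * φ (φ x) = 1 := by
    intro x
    have hF : MonoidHom.FixedPointFree φ.toMonoidHom := fun g hg => hfpf g hg
    have hit : (φ.toMonoidHom : N → N)^[3] = id := funext fun g => h3 g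
    have := hF.prod_pow_eq_one hit x
    simpa [List.range_succ, mul_assoc] using this
  have hcent : ∀ a b c : N, cm (cm a b) c = 1 := by
    intro a b c
    by_cases h1 : ∀ x : N, x = 1
    · exact h1 _
    · have ho : orderOf φ = 3 := by
        refine orderOf_eq_prime (MulEquiv.ext fun x => ?_) fun e => h1 fun x => hfpf x (by rw [e]; rfl)
        simp only [pow_succ, pow_zero, one_mul, MulAut.mul_apply, MulAut.one_apply]
        exact h3 x
      have hb := (Cfsg.Agent.S3779.result Nat.prime_three φ ho hfpf).2.1 rfl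
      have hm : ∀ u v : N, cm u v = ⁅u⁻¹, v⁻¹⁆ := fun u v => by simp [cm, commutatorElement_def]
      have h2 : ∀ u v w : N, ⁅⁅u, v⁆, w⁆ = 1 := by
        intro u v w
        rw [← mem_bot, ← hb]
        exact commutator_mem_commutator (commutator_mem_commutator (mem_top _) (mem_top _)) (mem_top _)
      have hcen : ∀ u v w : N, ⁅u, v⁆ * w = w * ⁅u, v⁆ := fun u v w =>
        commutatorElement_eq_one_iff_mul_comm.1 (h2 u v w)
      rw [cm, mul_assoc _ (cm a b) c, hm a b, hcen]; group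
  refine ⟨hnorm, hcent, fun a b => ?_⟩
  have hc : ∀ u v w : N, cm u v * w = w * cm u v := by
    intro u v w
    have := hcent u v w
    calc cm u v * w = w * cm u v * ((cm u v)⁻¹ * w⁻¹ * cm u v * w) := by group
      _ = w * cm u v * cm (cm u v) w := rfl
      _ = w * cm u v := by rw [this, mul_one]
  have hneg : ∀ u v : N, cm u⁻¹ v⁻¹ = cm u v := by
    intro u v
    calc cm u⁻¹ v⁻¹ = (u * v) * cm u v * (u * v)⁻¹ := by simp only [cm]; group
      _ = cm u v := by rw [← hc u v (u * v), mul_inv_cancel_right]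
  have hx : ∀ x, x * φ x = (φ (φ x))⁻¹ := fun x => eq_inv_of_mul_eq_one_left (hnorm x)
  have key : cm a (φ b) = cm (φ (φ a)) (φ (φ b)) := by
    have h := hx (b * a)
    simp only [map_mul] at h
    rw [mul_inv_rev, ← hx a, ← hx b] at h
    -- `b a b' a' = (a a') (b b')`
    have e1 : b * a * (φ b * φ a) = b * φ b * (a * φ a) * cm a (φ b) := by
      calc b * a * (φ b * φ a) = b * (φ b * a * cm a (φ b)) * φ a := by simp only [cm]; group
        _ = b * φ b * a * (cm a (φ b) * φ a) := by group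
        _ = _ := by rw [hc]; group
    have e2 : a * φ a * (b * φ b) = b * φ b * (a * φ a) * cm (a * φ a) (b * φ b) := by
      simp only [cm]; group
    rw [e1, e2] at h
    rw [mul_left_cancel h, hx a, hx b, hneg]
  rw [key]
  simp only [cm, map_mul, map_inv]

namespace Frame

variable {G : Type*} [Group G] (F : Frame G)

/-- The centralizer of `t`. -/
def H : Subgroup G := centralizer ({F.t} : Set G)

/-- The subgroup generated by `t` inside its centralizer. -/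
def T : Subgroup F.H := (zpowers F.t).subgroupOf F.H

instance T_normal : F.T.Normal := by
  refine ⟨fun u hu v => ?_⟩
  rw [T, mem_subgroupOf] at hu ⊢
  obtain ⟨i, hi⟩ := mem_zpowers_iff.1 hu
  refine mem_zpowers_iff.2 ⟨i, ?_⟩
  have hc : Commute (v : G) F.t := mem_centralizer_singleton_iff.1 v.2
  simp only [coe_mul, coe_inv, ← hi, (hc.zpow_right i).eq, mul_inv_cancel_right]

/-- The centralizer of `t` modulo `t`. -/
abbrev X : Type _ := F.H ⧸ F.T

theorem mem_H {u : G} : u ∈ F.H ↔ Commute u F.t := mem_centralizer_singleton_iff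

/-- The projection. -/
def pr : F.H →* F.X := QuotientGroup.mk' F.T

theorem pr_eq_one {u : F.H} : F.pr u = 1 ↔ (u : G) = 1 ∨ (u : G) = F.t := by
  rw [pr, QuotientGroup.mk'_apply, QuotientGroup.eq_one_iff, T, mem_subgroupOf, mem_zpowers_iff]
  constructor
  · rintro ⟨i, hi⟩
    rw [← hi]
    have h2 : F.t ^ (2 : ℤ) = 1 := by rw [zpow_two]; exact F.t_sq
    rcases Int.even_or_odd' i with ⟨j, rfl | rfl⟩
    · left; rw [zpow_mul, h2, one_zpow]
    · right; rw [zpow_add, zpow_mul, h2, one_zpow, zpow_one, one_mul]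
  · rintro (h | h)
    · exact ⟨0, by rw [h, zpow_zero]⟩
    · exact ⟨1, by rw [h, zpow_one]⟩

theorem z_H : F.z ∈ F.H := F.mem_H.2 F.t_comm_z.symm

theorem n_H : F.n ∈ F.H := F.mem_H.2 F.t_comm_n.symm

theorem m_H : F.m ∈ F.H := F.mem_H.2 F.t_comm_m.symm

theorem h_H : F.h ∈ F.H := F.mem_H.2 F.t_comm_h.symm

/-- The image of `z`. -/
def zb : F.X := F.pr ⟨F.z, F.z_H⟩

/-- The image of `h`. -/
def hb : F.X := F.pr ⟨F.h, F.h_H⟩

/-- The image of `n`. -/
def nb : F.X := F.pr ⟨F.n, F.n_H⟩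

/-- The image of `m`. -/
def mb : F.X := F.pr ⟨F.m, F.m_H⟩

theorem zb_cube : F.zb * F.zb * F.zb = 1 := by
  rw [zb, ← map_mul, ← map_mul, pr_eq_one]
  left; simpa [pow_succ] using F.z_cube

theorem zb_ne : F.zb ≠ 1 := by
  rw [zb, Ne, pr_eq_one]
  rintro (h | h)
  · exact F.z_ne h
  · have e := congrArg F.rA h
    change F.rA F.z = F.rA F.t at e
    rw [F.rA_z, F.rA_t] at e
    exact absurd e (by decide)

theorem hb_zb : F.hb * F.zb * F.hb⁻¹ = F.zb⁻¹ := by
  simp only [hb, zb, ← map_mul, ← map_inv]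
  exact congrArg F.pr (Subtype.ext F.h_inv_z)

theorem nb_sq : F.nb * F.nb = 1 := by
  rw [nb, ← map_mul, pr_eq_one]; right; exact F.n_sq

theorem mb_sq : F.mb * F.mb = 1 := by
  rw [mb, ← map_mul, pr_eq_one]; right; exact F.m_sq

theorem nb_hb : F.nb * F.hb = F.hb * F.nb := by
  have h : F.hb * F.nb * F.hb⁻¹ = F.nb⁻¹ := by
    simp only [hb, nb, ← map_mul, ← map_inv]
    exact congrArg F.pr (Subtype.ext F.h_conj_n)
  rw [inv_eq_of_mul_eq_one_right F.nb_sq] at h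
  exact (mul_inv_eq_iff_eq_mul.1 h).symm

theorem mb_hb : F.mb * F.hb = F.hb * F.mb := by
  have h : F.hb * F.mb * F.hb⁻¹ = F.mb⁻¹ := by
    simp only [hb, mb, ← map_mul, ← map_inv]
    exact congrArg F.pr (Subtype.ext F.h_conj_m)
  rw [inv_eq_of_mul_eq_one_right F.mb_sq] at h
  exact (mul_inv_eq_iff_eq_mul.1 h).symm

theorem eq_of_cm {X : Type*} [Group X] {a b : X} (h : cm a b = 1) : a * b = b * a := by
  calc a * b = b * a * (a⁻¹ * b⁻¹ * a * b) := by group
    _ = b * a * cm a b := by rw [cm]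
    _ = b * a := by rw [h, mul_one]

theorem nb_zb : F.nb * (F.zb⁻¹ * F.nb * F.zb) = F.zb⁻¹ * F.nb * F.zb * F.nb := by
  refine eq_of_cm ?_
  simp only [nb, zb, cm, ← map_mul, ← map_inv]
  rw [pr_eq_one]; right; exact F.cm_n_r

theorem mb_zb : F.mb * (F.zb⁻¹ * F.mb * F.zb) = F.zb⁻¹ * F.mb * F.zb * F.mb := by
  refine eq_of_cm ?_
  simp only [mb, zb, cm, ← map_mul, ← map_inv]
  rw [pr_eq_one]; right; exact F.cm_m_s

theorem nb_zpz : ∃ p : F.X, p * p * p = 1 ∧ F.nb = F.zb * p * F.zb := by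
  obtain ⟨p, hp, hn⟩ := F.n_eq_zpz
  have e : p = F.z⁻¹ * F.n * F.z⁻¹ := by rw [hn]; group
  have hpH : p ∈ F.H := e ▸ F.H.mul_mem (F.H.mul_mem (F.H.inv_mem F.z_H) F.n_H) (F.H.inv_mem F.z_H)
  refine ⟨F.pr ⟨p, hpH⟩, ?_, ?_⟩
  · rw [← map_mul, ← map_mul, pr_eq_one]; left; simpa [pow_succ] using hp
  · simp only [nb, zb, ← map_mul]; exact congrArg F.pr (Subtype.ext hn)

theorem mb_zqz : ∃ q : F.X, q * q * q = 1 ∧ F.mb = F.zb * q * F.zb := by
  obtain ⟨q, hq, hm⟩ := F.m_eq_zqz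
  have e : q = F.z⁻¹ * F.m * F.z⁻¹ := by rw [hm]; group
  have hqH : q ∈ F.H := e ▸ F.H.mul_mem (F.H.mul_mem (F.H.inv_mem F.z_H) F.m_H) (F.H.inv_mem F.z_H)
  refine ⟨F.pr ⟨q, hqH⟩, ?_, ?_⟩
  · rw [← map_mul, ← map_mul, pr_eq_one]; left; simpa [pow_succ] using hq
  · simp only [mb, zb, ← map_mul]; exact congrArg F.pr (Subtype.ext hm)

set_option synthInstance.maxSize 1024 in
set_option maxSynthPendingDepth 5 in
theorem aff_cent_tz : ∀ X : Aff, X.det ≠ 0 → X * (Aff.refl * Aff.neg) = Aff.refl * Aff.neg * X →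
    X * Aff.tr (0, 1) = Aff.tr (0, 1) * X →
    X = 1 ∨ X = Aff.tr (0, 1) ∨ X = Aff.tr (0, 1) * Aff.tr (0, 1) ∨ X = Aff.refl * Aff.neg ∨
      X = Aff.tr (0, 1) * (Aff.refl * Aff.neg) ∨
      X = Aff.tr (0, 1) * Aff.tr (0, 1) * (Aff.refl * Aff.neg) := by decide +kernel

set_option synthInstance.maxSize 1024 in
set_option maxSynthPendingDepth 5 in
theorem aff_cent_th : ∀ X : Aff, X.det ≠ 0 → X * (Aff.refl * Aff.neg) = Aff.refl * Aff.neg * X →
    X * Aff.refl = Aff.refl * X →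
    X = 1 ∨ X = Aff.refl ∨ X = Aff.neg ∨ X = Aff.refl * Aff.neg := by decide +kernel

/-- `z` generates its own centralizer in the quotient. -/
theorem centralizer_zb : centralizer ((zpowers F.zb : Subgroup F.X) : Set F.X) = zpowers F.zb := by
  refine le_antisymm (fun x hx => ?_) ?_
  · obtain ⟨⟨u, huH⟩, rfl⟩ := QuotientGroup.mk'_surjective F.T x
    have hc : F.pr ⟨u, huH⟩ * F.zb = F.zb * F.pr ⟨u, huH⟩ :=
      (mem_centralizer_iff.1 hx F.zb (mem_zpowers _)).symm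
    have hut : Commute u F.t := F.mem_H.1 huH
    have hmem : F.z⁻¹ * (u * F.z * u⁻¹) = 1 ∨ F.z⁻¹ * (u * F.z * u⁻¹) = F.t := by
      refine (F.pr_eq_one (u := ⟨F.z, F.z_H⟩⁻¹ * (⟨u, huH⟩ * ⟨F.z, F.z_H⟩ * ⟨u, huH⟩⁻¹))).1 ?_
      rw [map_mul, map_mul, map_mul, map_inv, map_inv]
      change F.zb⁻¹ * (F.pr ⟨u, huH⟩ * F.zb * (F.pr ⟨u, huH⟩)⁻¹) = 1
      rw [hc, mul_inv_cancel_right, inv_mul_cancel]
    have huz : u * F.z = F.z * u := by
      rcases hmem with h | h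
      · exact mul_inv_eq_iff_eq_mul.1 (inv_mul_eq_one.1 h).symm
      · exfalso
        have e : u * F.z * u⁻¹ = F.z * F.t := inv_mul_eq_iff_eq_mul.1 h
        have e3 : (u * F.z * u⁻¹) ^ 3 = 1 := by rw [conj_pow, F.z_cube]; group
        rw [e, F.t_comm_z.symm.mul_pow, F.z_cube, one_mul, pow_succ, pow_two, F.t_sq, one_mul] at e3
        exact F.t_ne e3
    have huA : u ∈ F.A := F.cent_z (mem_centralizer_singleton_iff.2 huz)
    have h1 := F.mulA u huA F.t F.t_mem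
    rw [hut.eq, F.mulA F.t F.t_mem u huA, F.rA_t] at h1
    have h2 := F.mulA u huA F.z F.zA
    rw [huz, F.mulA F.z F.zA u huA, F.rA_z] at h2
    have hzz : F.rA (F.z * F.z) = Aff.tr (0, 1) * Aff.tr (0, 1) := by rw [F.mulA _ F.zA _ F.zA, F.rA_z]
    have key : ∀ (v : G) (hv : v ∈ F.H), v ∈ F.A → F.rA u = F.rA v →
        F.pr ⟨v, hv⟩ ∈ zpowers F.zb → F.pr ⟨u, huH⟩ ∈ zpowers F.zb := fun v hv hvA e hmem => by
      have : (⟨u, huH⟩ : F.H) = ⟨v, hv⟩ := Subtype.ext (F.injA u huA v hvA e)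
      rw [this]; exact hmem
    have hzzH : F.z * F.z ∈ F.H := F.H.mul_mem F.z_H F.z_H
    have htH : F.t ∈ F.H := F.mem_H.2 (Commute.refl _)
    have pz : F.pr ⟨F.z, F.z_H⟩ ∈ zpowers F.zb := mem_zpowers _
    have pzz : F.pr ⟨F.z * F.z, hzzH⟩ ∈ zpowers F.zb := by
      rw [show (⟨F.z * F.z, hzzH⟩ : F.H) = ⟨F.z, F.z_H⟩ * ⟨F.z, F.z_H⟩ from rfl, map_mul]
      exact mul_mem pz pz
    have pt : F.pr ⟨F.t, htH⟩ ∈ zpowers F.zb := by
      rw [F.pr_eq_one.2 (Or.inr rfl)]; exact one_mem _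
    rcases aff_cent_tz _ (F.detA u huA) h1.symm h2.symm with h | h | h | h | h | h
    · exact key 1 F.H.one_mem F.A.one_mem (by rw [h, F.oneA]) (by
        rw [F.pr_eq_one.2 (Or.inl rfl)]; exact one_mem _)
    · exact key F.z F.z_H F.zA (by rw [h, F.rA_z]) pz
    · exact key _ hzzH (F.A.mul_mem F.zA F.zA) (by rw [h, hzz]) pzz
    · exact key F.t htH F.t_mem (by rw [h, F.rA_t]) pt
    · refine key (F.z * F.t) (F.H.mul_mem F.z_H htH) (F.A.mul_mem F.zA F.t_mem)
        (by rw [h, F.mulA _ F.zA _ F.t_mem, F.rA_z, F.rA_t]) ?_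
      rw [show (⟨F.z * F.t, _⟩ : F.H) = ⟨F.z, F.z_H⟩ * ⟨F.t, htH⟩ from rfl, map_mul]
      exact mul_mem pz pt
    · refine key (F.z * F.z * F.t) (F.H.mul_mem hzzH htH) (F.A.mul_mem (F.A.mul_mem F.zA F.zA) F.t_mem)
        (by rw [h, F.mulA _ (F.A.mul_mem F.zA F.zA) _ F.t_mem, hzz, F.rA_t]) ?_
      rw [show (⟨F.z * F.z * F.t, _⟩ : F.H) = ⟨F.z * F.z, hzzH⟩ * ⟨F.t, htH⟩ from rfl, map_mul]
      exact mul_mem pzz pt
  · intro x hx
    rw [mem_centralizer_iff]
    intro y hy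
    obtain ⟨i, rfl⟩ := mem_zpowers_iff.1 hx
    obtain ⟨j, rfl⟩ := mem_zpowers_iff.1 hy
    exact (Commute.zpow_zpow (Commute.refl _) j i).eq

variable [Finite G]

theorem orderOf_zb : orderOf F.zb = 3 :=
  orderOf_eq_prime (hp := ⟨Nat.prime_three⟩) (by rw [pow_succ, pow_two]; exact F.zb_cube) F.zb_ne

end Frame

end CfsgLib.Spor.GLTwoAmalgam
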