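import Cfsg.Agent.Lib.Spor.TC.Signed
import Mathlib.Tactic.IntervalCases

/-!
# Words for two sides `3^2:GL(2,3)` sharing a Borel subgroup

The letters `0, 2, 4, 6, 8, 10, 12` stand for generators `a, b, f, g, z, n, e`, odd letters for their
inverses and `14` for the empty letter.
-/

set_option autoImplicit false

namespace CfsgLib.Spor.GLTwoAmalgam

open CfsgLib.Spor.TC

variable {G : Type*} [Group G]

/-- The values of the letters. -/
def gv (a b f g z n e : G) : ℕ → G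
  | 0 => a | 1 => a⁻¹ | 2 => b | 3 => b⁻¹ | 4 => f | 5 => f⁻¹ | 6 => g | 7 => g⁻¹
  | 8 => z | 9 => z⁻¹ | 10 => n | 11 => n⁻¹ | 12 => e | 13 => e⁻¹
  | _ => 1

theorem gv_inv (a b f g z n e : G) : ∀ x, gv a b f g z n e (invLetter 14 x) = (gv a b f g z n e x)⁻¹ := by
  intro x
  by_cases hx : x < 14
  · interval_cases x <;> simp [gv, invLetter, Nat.ble, Nat.xor, Nat.bitwise]
  · obtain ⟨y, rfl⟩ : ∃ y, x = 14 + y := ⟨x - 14, by omega⟩
    have h : invLetter 14 (14 + y) = 14 + y := by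
      simp [invLetter, Nat.ble_eq_true_of_le (Nat.le_add_right 14 y)]
    rw [h, Nat.add_comm 14 y]
    simp [gv]

theorem gv_empty (a b f g z n e : G) : gv a b f g z n e 14 = 1 := rfl

/-- The inverse word. -/
noncomputable def winv (w : List ℕ) : List ℕ := revInvOnto 14 w []

/-- The commutator `u⁻¹ v⁻¹ u v`. -/
noncomputable def wcom (u v : List ℕ) : List ℕ := winv u ++ winv v ++ u ++ v

/-- The conjugate `g⁻¹ u g`. -/
noncomputable def wcj (u g : List ℕ) : List ℕ := winv g ++ u ++ g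

/-- The commutator `x⁻¹ y⁻¹ x y`. -/
def cm (x y : G) : G := x⁻¹ * y⁻¹ * x * y

/-- The conjugate `g⁻¹ x g`. -/
def cj (x g : G) : G := g⁻¹ * x * g

/-- `x · x^z · x^(z²)`. -/
def nrm (x z : G) : G := x * cj x z * cj x (z * z)

section

variable {g : ℕ → G} (hg : ∀ x, g (invLetter 14 x) = (g x)⁻¹)

include hg in
theorem ev_winv (w : List ℕ) : ev g (winv w) = (ev g w)⁻¹ := by
  have h := ev_revInvOnto ⟨14, [], [], fun _ => 0, fun _ => 0, fun _ => 0⟩ hg w []
  simpa [winv, ev] using h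

include hg in
theorem ev_wcom (u v : List ℕ) : ev g (wcom u v) = cm (ev g u) (ev g v) := by
  simp [wcom, cm, ev_append, ev_winv hg, mul_assoc]

include hg in
theorem ev_wcj (u v : List ℕ) : ev g (wcj u v) = cj (ev g u) (ev g v) := by
  simp [wcj, cj, ev_append, ev_winv hg, mul_assoc]

end

/-- The word of `m = (f)^g`. -/
def wm : List ℕ := [7, 4, 6]

/-- The word of `r = n^z`. -/
def wr : List ℕ := [9, 10, 8]

/-- The word of `s = m^z`. -/
def ws : List ℕ := [9, 7, 4, 6, 8]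

/-- The word of `[n, s] (e^(z²))⁻¹`. -/
noncomputable def wd0 : List ℕ := wcom [10] ws ++ winv [9, 9, 12, 8, 8]

/-- The word of `nrm x z`. -/
noncomputable def wnrm (w : List ℕ) : List ℕ := w ++ wcj w [8] ++ wcj w [8, 8]

/-- The word of a power of `t = n²`. -/
def wt : Bool → List ℕ
  | false => []
  | true => [10, 10]

/-- The relators of the first side, `f` standing for `h`. -/
def sideA : List (List ℕ) :=
  [[0, 0, 0], [2, 2, 2], [1, 3, 0, 2, 9], [8, 8, 8], [1, 9, 0, 8], [3, 9, 2, 8], [4, 4], [6, 6, 6, 6],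
    [5, 7, 7, 4, 6, 6], [4, 0, 5, 1], [6, 6, 0, 7, 7, 0], [4, 2, 5, 2], [6, 6, 2, 7, 7, 3],
    [6, 6, 8, 7, 7, 8], [4, 8, 5, 8], [6, 0, 7, 8], [6, 8, 7, 1], [2, 6, 2, 6, 2, 6], [4, 6, 5, 6],
    [7, 7, 3, 6, 6, 2]]

/-- The relators of the second side, `g` standing for `k`. -/
def sideB : List (List ℕ) :=
  [[6, 4, 7, 4], [4, 2, 5, 9], [4, 8, 5, 2], [0, 4, 0, 4, 0, 4]]

/-- Write `h` as `f²`. -/
def expA : ℕ → List ℕ
  | 4 => [4, 4]
  | 5 => [5, 5]
  | x => [x]

/-- Write `k` as `g²`. -/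
def expB : ℕ → List ℕ
  | 6 => [6, 6]
  | 7 => [7, 7]
  | x => [x]

/-- The definitions of `n` and `e`, and what follows for `n` and `m`. -/
def linkRels : List (List ℕ) :=
  [[11, 5, 7, 4], [13, 11, 7, 5, 6, 10, 7, 4, 6], [10, 10, 7, 7, 5, 5], [7, 4, 6, 7, 4, 6, 7, 7, 5, 5],
    [10, 10, 10, 10], [4, 4, 10, 5, 5, 10], [4, 4, 7, 4, 6, 5, 5, 7, 4, 6]]

/-- The common relators. -/
def baseRels : List (List ℕ) :=
  sideA.map (fun w => w.flatMap expA) ++ sideB.map (fun w => w.flatMap expB) ++ linkRels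

/-- The generators of the first side. -/
def subA : List (List ℕ) := [[0], [2], [6], [4, 4], [8]]

/-- The relators saying that `D = [n, s] (e^(z²))⁻¹` lies in `⟨t⟩`. -/
noncomputable def dRels : List (List ℕ) :=
  [wd0 ++ wd0, wcom wd0 [10], wcom wd0 wm, wcom wd0 [8]]

end CfsgLib.Spor.GLTwoAmalgam
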