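import Cfsg.Agent.Lib.Spor.GLTwoAmalgam.Frame
import Cfsg.Agent.Lib.Spor.GLTwoAmalgam.Words

/-!
# Relations in a frame
-/

set_option autoImplicit false

namespace CfsgLib.Spor.GLTwoAmalgam

open CfsgLib.Spor.TC

variable {G : Type*} [Group G]

namespace Aff

/-- The letters on the first side. -/
def affA : ℕ → Aff
  | 0 => tr (1, 0) | 1 => tr (2, 0) | 2 => bA | 3 => ⟨0, 0, 1, 0, 1, 1⟩ | 4 => refl | 5 => refl
  | 6 => gA | 7 => ⟨0, 0, 0, 2, 1, 0⟩ | 8 => tr (0, 1) | 9 => tr (0, 2)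
  | _ => 1

/-- The letters on the second side. -/
def affB : ℕ → Aff
  | 0 => aB | 1 => ⟨0, 0, 1, 0, 2, 1⟩ | 2 => tr (1, 0) | 3 => tr (2, 0) | 4 => fB
  | 5 => ⟨0, 0, 0, 1, 2, 0⟩ | 6 => refl | 7 => refl | 8 => tr (0, 1) | 9 => tr (0, 2)
  | _ => 1

/-- The value of a word. -/
def evw (g : ℕ → Aff) (w : List ℕ) : Aff := (w.map g).prod

theorem evw_sideA : ∀ w ∈ sideA, evw affA w = 1 := by decide +kernel

theorem evw_sideB : ∀ w ∈ sideB, evw affB w = 1 := by decide +kernel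

theorem sideA_lt : ∀ w ∈ sideA, ∀ x ∈ w, x < 10 := by decide

theorem sideB_lt : ∀ w ∈ sideB, ∀ x ∈ w, x < 10 := by decide

end Aff

namespace Frame

variable (F : Frame G)

theorem rA_inv {u : G} {X X' : Aff} (hu : u ∈ F.A) (e : F.rA u = X) (h : X' * X = 1) : F.rA u⁻¹ = X' := by
  have h1 := F.mulA u hu u⁻¹ (F.A.inv_mem hu)
  rw [mul_inv_cancel, F.oneA, e] at h1
  calc F.rA u⁻¹ = (X' * X) * F.rA u⁻¹ := by rw [h, one_mul]
    _ = X' := by rw [mul_assoc, ← h1, mul_one]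

theorem rB_inv {u : G} {X X' : Aff} (hu : u ∈ F.B) (e : F.rB u = X) (h : X' * X = 1) : F.rB u⁻¹ = X' := by
  have h1 := F.mulB u hu u⁻¹ (F.B.inv_mem hu)
  rw [mul_inv_cancel, F.oneB, e] at h1
  calc F.rB u⁻¹ = (X' * X) * F.rB u⁻¹ := by rw [h, one_mul]
    _ = X' := by rw [mul_assoc, ← h1, mul_one]

/-- The letters on the first side. -/
def gvA : ℕ → G := gv F.a F.b F.h F.g F.z 1 1

/-- The letters on the second side. -/
def gvB : ℕ → G := gv F.a F.b F.f F.k F.z 1 1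

theorem gvA_spec : ∀ x, F.gvA x ∈ F.A ∧ F.rA (F.gvA x) = Aff.affA x := by
  intro x
  rcases lt_or_ge x 14 with hx | hx
  · interval_cases x <;> simp only [gvA, gv, Aff.affA, inv_one] <;>
      first
      | exact ⟨F.aA, F.rA_a⟩
      | exact ⟨F.bA, F.rA_b⟩
      | exact ⟨F.gA, F.rA_g⟩
      | exact ⟨F.zA, F.rA_z⟩
      | exact ⟨F.hA, F.rA_h⟩
      | exact ⟨F.A.one_mem, F.oneA⟩
      | exact ⟨F.A.inv_mem F.aA, F.rA_inv F.aA F.rA_a (by decide)⟩
      | exact ⟨F.A.inv_mem F.bA, F.rA_inv F.bA F.rA_b (by decide)⟩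
      | exact ⟨F.A.inv_mem F.gA, F.rA_inv F.gA F.rA_g (by decide)⟩
      | exact ⟨F.A.inv_mem F.zA, F.rA_inv F.zA F.rA_z (by decide)⟩
      | exact ⟨F.A.inv_mem F.hA, F.rA_inv F.hA F.rA_h (by decide)⟩
  · obtain ⟨y, rfl⟩ : ∃ y, x = y + 14 := ⟨x - 14, by omega⟩
    simp only [gvA, gv, Aff.affA]
    exact ⟨F.A.one_mem, F.oneA⟩

theorem gvB_spec : ∀ x, F.gvB x ∈ F.B ∧ F.rB (F.gvB x) = Aff.affB x := by
  intro x
  rcases lt_or_ge x 14 with hx | hx
  · interval_cases x <;> simp only [gvB, gv, Aff.affB, inv_one] <;>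
      first
      | exact ⟨F.aB, F.rB_a⟩
      | exact ⟨F.bB, F.rB_b⟩
      | exact ⟨F.fB, F.rB_f⟩
      | exact ⟨F.zB, F.rB_z⟩
      | exact ⟨F.kB, F.rB_k⟩
      | exact ⟨F.B.one_mem, F.oneB⟩
      | exact ⟨F.B.inv_mem F.aB, F.rB_inv F.aB F.rB_a (by decide)⟩
      | exact ⟨F.B.inv_mem F.bB, F.rB_inv F.bB F.rB_b (by decide)⟩
      | exact ⟨F.B.inv_mem F.fB, F.rB_inv F.fB F.rB_f (by decide)⟩
      | exact ⟨F.B.inv_mem F.zB, F.rB_inv F.zB F.rB_z (by decide)⟩
      | exact ⟨F.B.inv_mem F.kB, F.rB_inv F.kB F.rB_k (by decide)⟩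
  · obtain ⟨y, rfl⟩ : ∃ y, x = y + 14 := ⟨x - 14, by omega⟩
    simp only [gvB, gv, Aff.affB]
    exact ⟨F.B.one_mem, F.oneB⟩

theorem evA (w : List ℕ) : ev F.gvA w ∈ F.A ∧ F.rA (ev F.gvA w) = Aff.evw Aff.affA w := by
  induction w with
  | nil => exact ⟨F.A.one_mem, F.oneA⟩
  | cons x w ih =>
    rw [ev_cons]
    refine ⟨F.A.mul_mem (F.gvA_spec x).1 ih.1, ?_⟩
    rw [F.mulA _ (F.gvA_spec x).1 _ ih.1, (F.gvA_spec x).2, ih.2]
    rfl

theorem evB (w : List ℕ) : ev F.gvB w ∈ F.B ∧ F.rB (ev F.gvB w) = Aff.evw Aff.affB w := by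
  induction w with
  | nil => exact ⟨F.B.one_mem, F.oneB⟩
  | cons x w ih =>
    rw [ev_cons]
    refine ⟨F.B.mul_mem (F.gvB_spec x).1 ih.1, ?_⟩
    rw [F.mulB _ (F.gvB_spec x).1 _ ih.1, (F.gvB_spec x).2, ih.2]
    rfl

/-- An equation on the first side is checked on affine maps. -/
theorem eqA (v w : List ℕ) (h : Aff.evw Aff.affA v = Aff.evw Aff.affA w) : ev F.gvA v = ev F.gvA w :=
  F.injA _ (F.evA v).1 _ (F.evA w).1 (by rw [(F.evA v).2, (F.evA w).2, h])

/-- An equation on the second side is checked on affine maps. -/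
theorem eqB (v w : List ℕ) (h : Aff.evw Aff.affB v = Aff.evw Aff.affB w) : ev F.gvB v = ev F.gvB w :=
  F.injB _ (F.evB v).1 _ (F.evB w).1 (by rw [(F.evB v).2, (F.evB w).2, h])

theorem h_eq : F.h = F.f * F.f := by
  refine F.injB _ F.hB _ (F.B.mul_mem F.fB F.fB) ?_
  rw [F.mulB _ F.fB _ F.fB, F.rB_h, F.rB_f, Aff.fB_sq]

theorem k_eq : F.k = F.g * F.g := by
  refine F.injA _ F.kA _ (F.A.mul_mem F.gA F.gA) ?_
  rw [F.mulA _ F.gA _ F.gA, F.rA_k, F.rA_g, Aff.gA_sq]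

/-- The central involution `t` of the third point. -/
def t : G := F.h * F.k

/-- The element `n`. -/
def n : G := F.f⁻¹ * F.g⁻¹ * F.f

/-- The element `m`. -/
def m : G := F.g⁻¹ * F.f * F.g

/-- The element `r`. -/
def r : G := cj F.n F.z

/-- The element `s`. -/
def s : G := cj F.m F.z

/-- The element `e`. -/
def e : G := cm F.n F.m

theorem hk_comm : F.h * F.k = F.k * F.h := by
  have := F.eqA [4, 6, 6] [6, 6, 4] (by decide)
  simp only [ev_cons, ev, gvA, gv, List.map_nil, List.prod_nil, List.map_cons, List.prod_cons] at this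
  rw [F.k_eq]; simpa [mul_assoc] using this

theorem h_sq : F.h * F.h = 1 := by
  simpa [ev, gvA, gv, mul_assoc] using F.eqA [4, 4] [] (by decide)

theorem k_sq : F.k * F.k = 1 := by
  simpa [ev, gvB, gv, mul_assoc] using F.eqB [6, 6] [] (by decide)

theorem t_sq : F.t * F.t = 1 := by
  calc F.t * F.t = F.h * (F.k * F.h) * F.k := by simp only [t, mul_assoc]
    _ = (F.h * F.h) * (F.k * F.k) := by rw [← F.hk_comm]; simp only [mul_assoc]
    _ = 1 := by rw [F.h_sq, F.k_sq, mul_one]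

theorem z_cube : F.z ^ 3 = 1 := by
  simpa [ev, gvA, gv, pow_succ, mul_assoc] using F.eqA [8, 8, 8] [] (by decide)

theorem z_ne : F.z ≠ 1 := fun h => by
  have e := congrArg F.rA h
  rw [F.rA_z, F.oneA] at e
  exact absurd e (by decide)

theorem t_mem : F.t ∈ F.A := F.A.mul_mem F.hA F.kA

theorem rA_t : F.rA F.t = Aff.refl * Aff.neg := by rw [t, F.mulA _ F.hA _ F.kA, F.rA_h, F.rA_k]

theorem t_ne : F.t ≠ 1 := fun h => by
  have e := F.rA_t
  rw [h, F.oneA] at e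
  exact absurd e (by decide)

theorem f_conj_k : F.f⁻¹ * F.k * F.f = F.t := by
  have := F.eqB [5, 6, 4] [4, 4, 6] (by decide)
  simp only [ev, gvB, gv, List.map_nil, List.prod_nil, List.map_cons, List.prod_cons, mul_one] at this
  rw [t, F.h_eq]; simpa [mul_assoc] using this

theorem g_conj_h : F.g⁻¹ * F.h * F.g = F.t := by
  have := F.eqA [7, 4, 6] [4, 6, 6] (by decide)
  simp only [ev, gvA, gv, List.map_nil, List.prod_nil, List.map_cons, List.prod_cons, mul_one] at this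
  rw [t, F.k_eq]; simpa [mul_assoc] using this

theorem f_conj_h : F.f⁻¹ * F.h * F.f = F.h := by rw [F.h_eq]; group

theorem n_sq : F.n * F.n = F.t := by
  have e : (F.g * F.g)⁻¹ = F.g * F.g := by
    rw [← F.k_eq]; exact inv_eq_of_mul_eq_one_right F.k_sq
  calc F.n * F.n = F.f⁻¹ * (F.g * F.g)⁻¹ * F.f := by simp only [n]; group
    _ = F.t := by rw [e, ← F.k_eq, F.f_conj_k]

theorem m_sq : F.m * F.m = F.t := by
  calc F.m * F.m = F.g⁻¹ * (F.f * F.f) * F.g := by simp only [m]; group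
    _ = F.t := by rw [← F.h_eq, F.g_conj_h]

theorem t_comm_n : Commute F.t F.n := by rw [← F.n_sq]; exact (Commute.refl _).mul_left (Commute.refl _)

theorem t_comm_m : Commute F.t F.m := by rw [← F.m_sq]; exact (Commute.refl _).mul_left (Commute.refl _)

theorem t_comm_h : Commute F.t F.h := by
  show F.t * F.h = F.h * F.t
  rw [t, mul_assoc, ← F.hk_comm]

theorem t_comm_k : Commute F.t F.k := by
  show F.t * F.k = F.k * F.t
  rw [t, ← mul_assoc F.k, ← F.hk_comm]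

theorem t_comm_z : Commute F.t F.z := by
  refine F.injA _ (F.A.mul_mem F.t_mem F.zA) _ (F.A.mul_mem F.zA F.t_mem) ?_
  rw [F.mulA _ F.t_mem _ F.zA, F.mulA _ F.zA _ F.t_mem, F.rA_t, F.rA_z]
  decide

theorem h_inv_z : F.h * F.z * F.h⁻¹ = F.z⁻¹ := by
  simpa [ev, gvA, gv, mul_assoc] using F.eqA [4, 8, 5] [9] (by decide)

theorem h_conj_n : F.h * F.n * F.h⁻¹ = F.n⁻¹ := by
  have hg : F.h * F.g⁻¹ * F.h⁻¹ = F.g := by
    simpa [ev, gvA, gv, mul_assoc] using F.eqA [4, 7, 5] [6] (by decide)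
  calc F.h * F.n * F.h⁻¹ = F.f⁻¹ * (F.h * F.g⁻¹ * F.h⁻¹) * F.f := by
        simp only [n]; rw [F.h_eq]; group
    _ = F.n⁻¹ := by rw [hg]; simp only [n]; group

theorem h_conj_m : F.h * F.m * F.h⁻¹ = F.m⁻¹ := by
  have hg : F.k * F.f * F.k⁻¹ = F.f⁻¹ := by
    simpa [ev, gvB, gv, mul_assoc] using F.eqB [6, 4, 7] [5] (by decide)
  have hk : F.k * F.m * F.k⁻¹ = F.m⁻¹ := by
    calc F.k * F.m * F.k⁻¹ = F.g⁻¹ * (F.k * F.f * F.k⁻¹) * F.g := by
          simp only [m]; rw [F.k_eq]; group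
      _ = F.m⁻¹ := by rw [hg]; simp only [m]; group
  have ht : F.h = F.t * F.k := by rw [t, mul_assoc, F.k_sq, mul_one]
  calc F.h * F.m * F.h⁻¹ = F.t * (F.k * F.m * F.k⁻¹) * F.t⁻¹ := by rw [ht]; group
    _ = F.m⁻¹ := by rw [hk, (F.t_comm_m.inv_right).eq, mul_inv_cancel_right]

/-- `n` and its conjugate by `z` have commutator `t`. -/
theorem cm_n_r : cm F.n F.r = F.t := by
  have hz : F.z = F.f⁻¹ * F.b⁻¹ * F.f := by
    have := F.eqB [4, 8, 5] [3] (by decide)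
    simp only [ev, gvB, gv, List.map_nil, List.prod_nil, List.map_cons, List.prod_cons, mul_one] at this
    calc F.z = F.f⁻¹ * (F.f * (F.z * F.f⁻¹)) * F.f := by group
      _ = _ := by rw [this]
  have := F.eqA [6, 2, 6, 3, 7, 2, 7, 3] [6, 6] (by decide)
  simp only [ev, gvA, gv, List.map_nil, List.prod_nil, List.map_cons, List.prod_cons, mul_one] at this
  rw [← F.f_conj_k, F.k_eq, ← this]
  simp only [cm, r, cj, n]
  rw [hz]; group

/-- `m` and its conjugate by `z` have commutator `t`. -/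
theorem cm_m_s : cm F.m F.s = F.t := by
  have hz : F.z = F.g⁻¹ * F.a * F.g := by
    have := F.eqA [6, 8, 7] [0] (by decide)
    simp only [ev, gvA, gv, List.map_nil, List.prod_nil, List.map_cons, List.prod_cons, mul_one] at this
    calc F.z = F.g⁻¹ * (F.g * (F.z * F.g⁻¹)) * F.g := by group
      _ = _ := by rw [this]
  have := F.eqB [5, 1, 5, 0, 4, 1, 4, 0] [4, 4] (by decide)
  simp only [ev, gvB, gv, List.map_nil, List.prod_nil, List.map_cons, List.prod_cons, mul_one] at this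
  rw [← F.g_conj_h, F.h_eq, ← this]
  simp only [cm, s, cj, m]
  rw [hz]; group

/-- `n` is `z` times an element of order three times `z`. -/
theorem n_eq_zpz : ∃ p, p ^ 3 = 1 ∧ F.n = F.z * p * F.z := by
  have hz : F.z = F.f⁻¹ * F.b⁻¹ * F.f := by
    have := F.eqB [4, 8, 5] [3] (by decide)
    simp only [ev, gvB, gv, List.map_nil, List.prod_nil, List.map_cons, List.prod_cons, mul_one] at this
    calc F.z = F.f⁻¹ * (F.f * (F.z * F.f⁻¹)) * F.f := by group
      _ = _ := by rw [this]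
  refine ⟨F.f⁻¹ * (F.b * F.g⁻¹ * F.b) * F.f, ?_, ?_⟩
  · have : (F.b * F.g⁻¹ * F.b) ^ 3 = 1 := by
      simpa [ev, gvA, gv, pow_succ, mul_assoc] using F.eqA [2, 7, 2, 2, 7, 2, 2, 7, 2] [] (by decide)
    calc _ = F.f⁻¹ * (F.b * F.g⁻¹ * F.b) ^ 3 * F.f := by simp only [pow_succ, pow_zero]; group
      _ = 1 := by rw [this]; group
  · simp only [n]; rw [hz]; group

/-- `m` is `z` times an element of order three times `z`. -/
theorem m_eq_zqz : ∃ q, q ^ 3 = 1 ∧ F.m = F.z * q * F.z := by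
  have hz : F.z = F.g⁻¹ * F.a * F.g := by
    have := F.eqA [6, 8, 7] [0] (by decide)
    simp only [ev, gvA, gv, List.map_nil, List.prod_nil, List.map_cons, List.prod_cons, mul_one] at this
    calc F.z = F.g⁻¹ * (F.g * (F.z * F.g⁻¹)) * F.g := by group
      _ = _ := by rw [this]
  refine ⟨F.g⁻¹ * (F.a⁻¹ * F.f * F.a⁻¹) * F.g, ?_, ?_⟩
  · have : (F.a⁻¹ * F.f * F.a⁻¹) ^ 3 = 1 := by
      simpa [ev, gvB, gv, pow_succ, mul_assoc] using F.eqB [1, 4, 1, 1, 4, 1, 1, 4, 1] [] (by decide)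
    calc _ = F.g⁻¹ * (F.a⁻¹ * F.f * F.a⁻¹) ^ 3 * F.g := by simp only [pow_succ, pow_zero]; group
      _ = 1 := by rw [this]; group
  · simp only [m]; rw [hz]; group

/-- The letters of the amalgam. -/
def gvG : ℕ → G := gv F.a F.b F.f F.g F.z F.n F.e

theorem ev_expA : ∀ w : List ℕ, (∀ x ∈ w, x < 10) → ev F.gvG (w.flatMap expA) = ev F.gvA w := by
  intro w hw
  induction w with
  | nil => rfl
  | cons x w ih =>
    rw [List.flatMap_cons, ev_append, ev_cons, ih fun y hy => hw y (List.mem_cons_of_mem _ hy)]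
    congr 1
    have hx := hw x List.mem_cons_self
    have he := F.h_eq
    interval_cases x <;> simp [ev, gvG, gvA, gv, expA, he]

theorem ev_expB : ∀ w : List ℕ, (∀ x ∈ w, x < 10) → ev F.gvG (w.flatMap expB) = ev F.gvB w := by
  intro w hw
  induction w with
  | nil => rfl
  | cons x w ih =>
    rw [List.flatMap_cons, ev_append, ev_cons, ih fun y hy => hw y (List.mem_cons_of_mem _ hy)]
    congr 1
    have hx := hw x List.mem_cons_self
    have he := F.k_eq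
    interval_cases x <;> simp [ev, gvG, gvB, gv, expB, he]

/-- The common relators hold. -/
theorem baseRels_one : ∀ w ∈ baseRels, ev F.gvG w = 1 := by
  intro w hw
  simp only [baseRels, List.mem_append, List.mem_map] at hw
  rcases hw with (⟨v, hv, rfl⟩ | ⟨v, hv, rfl⟩) | hw
  · rw [F.ev_expA v (Aff.sideA_lt v hv), F.eqA v [] (Aff.evw_sideA v hv)]
    rfl
  · rw [F.ev_expB v (Aff.sideB_lt v hv), F.eqB v [] (Aff.evw_sideB v hv)]
    rfl
  · have hf : F.f * F.f = F.h := F.h_eq.symm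
    have hg : F.g * F.g = F.k := F.k_eq.symm
    have hh : F.h⁻¹ = F.h := inv_eq_of_mul_eq_one_right F.h_sq
    have hk : F.k⁻¹ = F.k := inv_eq_of_mul_eq_one_right F.k_sq
    have ht : F.k⁻¹ * F.h⁻¹ = F.t := by rw [hk, hh, ← F.hk_comm]; rfl
    have hn := F.n_sq
    have hm := F.m_sq
    simp only [linkRels, List.mem_cons, List.not_mem_nil, or_false] at hw
    rcases hw with rfl | rfl | rfl | rfl | rfl | rfl | rfl
    · simp [ev, gvG, gv, n, mul_assoc]
    · simp [ev, gvG, gv, e, cm, n, m, mul_assoc]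
    · calc ev F.gvG [10, 10, 7, 7, 5, 5] = (F.n * F.n) * ((F.g * F.g)⁻¹ * (F.f * F.f)⁻¹) := by
            simp [ev, gvG, gv, mul_assoc]
        _ = 1 := by rw [hn, hg, hf, ht, F.t_sq]
    · calc ev F.gvG [7, 4, 6, 7, 4, 6, 7, 7, 5, 5] = (F.m * F.m) * ((F.g * F.g)⁻¹ * (F.f * F.f)⁻¹) := by
            simp [ev, gvG, gv, m, mul_assoc]
        _ = 1 := by rw [hm, hg, hf, ht, F.t_sq]
    · calc ev F.gvG [10, 10, 10, 10] = (F.n * F.n) * (F.n * F.n) := by simp [ev, gvG, gv, mul_assoc]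
        _ = 1 := by rw [hn, F.t_sq]
    · calc ev F.gvG [4, 4, 10, 5, 5, 10] = ((F.f * F.f) * F.n * (F.f * F.f)⁻¹) * F.n := by
            simp [ev, gvG, gv, mul_assoc]
        _ = 1 := by rw [hf, F.h_conj_n, inv_mul_cancel]
    · calc ev F.gvG [4, 4, 7, 4, 6, 5, 5, 7, 4, 6] = ((F.f * F.f) * F.m * (F.f * F.f)⁻¹) * F.m := by
            simp [ev, gvG, gv, m, mul_assoc]
        _ = 1 := by rw [hf, F.h_conj_m, inv_mul_cancel]

end Frame

end CfsgLib.Spor.GLTwoAmalgam
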