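import Cfsg.Agent.Lib.Spor.GLTwoAmalgam.Side
import Cfsg.Agent.Lib.PGroup.Basic
import Cfsg.Prelude.Def_Solvable
import Mathlib.GroupTheory.Sylow
import Mathlib.LinearAlgebra.Matrix.GeneralLinearGroup.Card
import Mathlib.Algebra.Field.ZMod

/-!
# A frame for two sides sharing a Borel subgroup

The hypotheses of the recognition give generators `a, b, f, g, z` and coordinates on both sides.
-/

set_option autoImplicit false

namespace CfsgLib.Spor.GLTwoAmalgam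

open Subgroup

variable {G : Type*} [Group G]

namespace Aff

/-- The matrix of `b` on the first side. -/
def bA : Aff := ⟨0, 0, 1, 0, 2, 1⟩

/-- The matrix of `g`. -/
def gA : Aff := ⟨0, 0, 0, 1, 2, 0⟩

/-- The reflection fixing the first basis vector. -/
def refl : Aff := ⟨0, 0, 1, 0, 0, 2⟩

/-- Inversion. -/
def neg : Aff := ⟨0, 0, 2, 0, 0, 2⟩

/-- The matrix of `a` on the second side. -/
def aB : Aff := ⟨0, 0, 1, 0, 1, 1⟩

/-- The matrix of `f`. -/
def fB : Aff := ⟨0, 0, 0, 2, 1, 0⟩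

theorem gA_sq : gA * gA = neg := by decide

theorem fB_sq : fB * fB = neg := by decide

end Aff

/-- Generators and coordinates for the two sides. -/
structure Frame (G : Type*) [Group G] where
  A : Subgroup G
  B : Subgroup G
  a : G
  b : G
  f : G
  g : G
  z : G
  h : G
  k : G
  rA : G → Aff
  rB : G → Aff
  aA : a ∈ A
  bA : b ∈ A
  gA : g ∈ A
  zA : z ∈ A
  hA : h ∈ A
  kA : k ∈ A
  aB : a ∈ B
  bB : b ∈ B
  fB : f ∈ B
  zB : z ∈ B
  hB : h ∈ B
  kB : k ∈ B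
  mulA : ∀ u ∈ A, ∀ v ∈ A, rA (u * v) = rA u * rA v
  mulB : ∀ u ∈ B, ∀ v ∈ B, rB (u * v) = rB u * rB v
  injA : ∀ u ∈ A, ∀ v ∈ A, rA u = rA v → u = v
  injB : ∀ u ∈ B, ∀ v ∈ B, rB u = rB v → u = v
  oneA : rA 1 = 1
  oneB : rB 1 = 1
  detA : ∀ u ∈ A, (rA u).det ≠ 0
  detB : ∀ u ∈ B, (rB u).det ≠ 0
  surjA : ∀ X : Aff, X.det ≠ 0 → ∃ u ∈ A, rA u = X
  surjB : ∀ X : Aff, X.det ≠ 0 → ∃ u ∈ B, rB u = X
  rA_a : rA a = Aff.tr (1, 0)
  rA_z : rA z = Aff.tr (0, 1)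
  rA_b : rA b = Aff.bA
  rA_g : rA g = Aff.gA
  rA_h : rA h = Aff.refl
  rA_k : rA k = Aff.neg
  rB_b : rB b = Aff.tr (1, 0)
  rB_z : rB z = Aff.tr (0, 1)
  rB_a : rB a = Aff.aB
  rB_f : rB f = Aff.fB
  rB_h : rB h = Aff.neg
  rB_k : rB k = Aff.refl
  cent_z : centralizer ({z} : Set G) ≤ A
  gen : A ⊔ B = ⊤
  ne_top : A ≠ ⊤

variable [Finite G]

theorem card_gl : Nat.card (GL (Fin 2) (ZMod 3)) = 48 := by
  haveI : Fact (Nat.Prime 3) := ⟨Nat.prime_three⟩
  rw [Matrix.card_GL_field]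
  simp [Fin.prod_univ_two]

/-- A side, with its normal subgroup of order nine inside a given Sylow subgroup. -/
theorem side_facts (A : Subgroup G) (e : A ⧸ Cfsg.pCore 3 A ≃* GL (Fin 2) (ZMod 3))
    (hO : IsMulCommutative (Cfsg.pCore 3 A) ∧ (∀ x ∈ Cfsg.pCore 3 A, x ^ 3 = 1) ∧
      Nat.card (Cfsg.pCore 3 A) = 9 ∧
      Subgroup.centralizer ((Cfsg.pCore 3 A : Subgroup A) : Set A) = Cfsg.pCore 3 A)
    (P : Subgroup G) (hPA : P ≤ A) (hP : Nat.card P = 27) :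
    ∃ V : Subgroup G, V ≤ P ∧ Nat.card A = 432 ∧ Nat.card V = 9 ∧ (∀ g ∈ A, ∀ v ∈ V, g * v * g⁻¹ ∈ V) ∧
      (∀ v ∈ V, v ^ 3 = 1) ∧ (∀ v ∈ V, ∀ w ∈ V, v * w = w * v) ∧
      ∀ g ∈ A, (∀ v ∈ V, g * v = v * g) → g ∈ V := by
  haveI : Fact (Nat.Prime 3) := ⟨Nat.prime_three⟩
  obtain ⟨hc, h3, h9, hcent⟩ := hO
  haveI hn : (Cfsg.pCore 3 A).Normal := inferInstance
  have hA : Nat.card A = 432 := by
    rw [← (Cfsg.pCore 3 A).card_mul_index, index, Nat.card_congr e.toEquiv, card_gl, h9]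
  have hmem : ∀ v, v ∈ (Cfsg.pCore 3 A).map A.subtype ↔ ∃ hv : v ∈ A, (⟨v, hv⟩ : A) ∈ Cfsg.pCore 3 A := by
    intro v
    constructor
    · rintro ⟨w, hw, rfl⟩; exact ⟨w.2, hw⟩
    · rintro ⟨hv, h⟩; exact ⟨_, h, rfl⟩
  refine ⟨(Cfsg.pCore 3 A).map A.subtype, ?_, hA, ?_, ?_, ?_, ?_, ?_⟩
  · have hP' : Nat.card (P.subgroupOf A) = 27 := by
      rw [Nat.card_congr (subgroupOfEquivOfLe hPA).toEquiv, hP]
    have hp : IsPGroup 3 (P.subgroupOf A) := IsPGroup.of_card (n := 3) (by rw [hP']; norm_num)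
    obtain ⟨Q, hQ⟩ := hp.exists_le_sylow
    have hQc : Nat.card (Q : Subgroup A) = 27 := by
      rw [Q.card_eq_multiplicity, hA, show (432 : ℕ) = 3 ^ 3 * 16 by norm_num,
        Nat.factorization_mul (by norm_num) (by norm_num), Nat.Prime.factorization_pow Nat.prime_three]
      simp [Nat.factorization_eq_zero_of_not_dvd (show ¬ 3 ∣ 16 by norm_num)]
    have hQe : P.subgroupOf A = (Q : Subgroup A) := eq_of_le_of_card_ge hQ (by omega)
    intro v hv
    obtain ⟨w, hw, rfl⟩ := hv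
    have := CfsgLib.PGroup.pCore_le_sylow Q hw
    rw [← hQe] at this
    exact mem_subgroupOf.1 this
  · rw [Nat.card_congr (equivMapOfInjective _ _ A.subtype_injective).toEquiv.symm, h9]
  · intro g hg v hv
    obtain ⟨hvA, hv⟩ := (hmem v).1 hv
    exact (hmem _).2 ⟨A.mul_mem (A.mul_mem hg hvA) (A.inv_mem hg), hn.conj_mem _ hv ⟨g, hg⟩⟩
  · intro v hv
    obtain ⟨hvA, hv⟩ := (hmem v).1 hv
    exact congrArg Subtype.val (h3 _ hv)
  · intro v hv w hw
    obtain ⟨hvA, hv⟩ := (hmem v).1 hv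
    obtain ⟨hwA, hw⟩ := (hmem w).1 hw
    exact congrArg (fun u : Cfsg.pCore 3 A => ((u : A) : G)) (hc.is_comm.comm ⟨_, hv⟩ ⟨_, hw⟩)
  · intro g hg hcomm
    refine (hmem g).2 ⟨hg, ?_⟩
    rw [← hcent, mem_centralizer_iff]
    intro v hv
    exact Subtype.ext (hcomm _ ((hmem _).2 ⟨v.2, hv⟩)).symm

/-- A basis from an element outside a subgroup of order three. -/
theorem basis_of (A V W : Subgroup G) (x y : G) (hA : V ≤ A) (hV : Nat.card V = 9)
    (hn : ∀ g ∈ A, ∀ v ∈ V, g * v * g⁻¹ ∈ V) (h3 : ∀ v ∈ V, v ^ 3 = 1)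
    (hc : ∀ v ∈ V, ∀ w ∈ V, v * w = w * v) (hs : ∀ g ∈ A, (∀ v ∈ V, g * v = v * g) → g ∈ V)
    (hWV : W ≤ V) (hx : x ∈ V) (hxW : x ∉ W) (hy : y ∈ W) (hy1 : y ≠ 1) : Basis A V x y := by
  classical
  let φ : ZMod 3 × ZMod 3 → V := fun c =>
    ⟨x ^ c.1.val * y ^ c.2.val, V.mul_mem (V.pow_mem hx _) (V.pow_mem (hWV hy) _)⟩
  have hinj : ∀ c : ZMod 3 × ZMod 3, x ^ c.1.val * y ^ c.2.val = 1 → c = 0 := by
    rintro ⟨i, j⟩ he
    have hxi : x ^ i.val ∈ W := by
      rw [mul_eq_one_iff_eq_inv.1 he]; exact W.inv_mem (W.pow_mem hy _)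
    have hi : i = 0 := by
      fin_cases i
      · rfl
      · exact absurd (by simpa [ZMod.val] using hxi) hxW
      · refine absurd ?_ hxW
        have h2 : x ^ 2 ∈ W := by simpa [ZMod.val] using hxi
        have : x = (x ^ 2)⁻¹ := by
          refine eq_inv_of_mul_eq_one_left ?_
          rw [← pow_succ', h3 x hx]
        rw [this]; exact W.inv_mem h2
    subst hi
    simp only [ZMod.val_zero, pow_zero, one_mul] at he
    fin_cases j
    · rfl
    · exact absurd (by simpa [ZMod.val] using he) hy1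
    · refine absurd ?_ hy1
      have h2 : y ^ 2 = 1 := by simpa [ZMod.val] using he
      simpa [pow_succ, h2] using h3 y (hWV hy)
  have hxy : Commute x y := hc x hx y (hWV hy)
  have hφ : Function.Injective φ := by
    intro c d he
    have he' : x ^ c.1.val * y ^ c.2.val = x ^ d.1.val * y ^ d.2.val := congrArg Subtype.val he
    refine sub_eq_zero.1 (hinj (c - d) ?_)
    have hp : ∀ (w : G), w ^ 3 = 1 → ∀ i j : ZMod 3, w ^ (i + j).val = w ^ i.val * w ^ j.val := by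
      intro w hw i j
      rw [← pow_add, ZMod.val_add, ← pow_eq_pow_mod _ hw]
    have e1 : x ^ c.1.val = x ^ (c - d).1.val * x ^ d.1.val := by
      rw [← hp x (h3 x hx), Prod.fst_sub, sub_add_cancel]
    have e2 : y ^ c.2.val = y ^ (c - d).2.val * y ^ d.2.val := by
      rw [← hp y (h3 y (hWV hy)), Prod.snd_sub, sub_add_cancel]
    rw [e1, e2, mul_assoc, ← mul_assoc (x ^ d.1.val), (hxy.pow_pow d.1.val (c - d).2.val).eq,
      mul_assoc, ← mul_assoc] at he'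
    exact mul_eq_right.1 he'
  have hb : Function.Bijective φ := by
    rw [Nat.bijective_iff_injective_and_card]
    exact ⟨hφ, by rw [hV, Nat.card_prod, Nat.card_zmod]⟩
  exact
    { le := hA
      normal := hn
      hx := hx
      hy := hWV hy
      x3 := h3 x hx
      y3 := h3 y (hWV hy)
      comm := hxy
      coord := fun v hv => (hb.2 ⟨v, hv⟩).imp fun c e => (congrArg Subtype.val e).symm
      inj := hinj
      selfCent := fun g hg e1 e2 => hs g hg fun v hv => by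
        obtain ⟨c, e⟩ := hb.2 ⟨v, hv⟩
        have hv' : v = x ^ c.1.val * y ^ c.2.val := (congrArg Subtype.val e).symm
        rw [hv']
        exact ((Commute.pow_right e1 _).mul_right (Commute.pow_right e2 _)).eq }

end CfsgLib.Spor.GLTwoAmalgam
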