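import Cfsg.Agent.Lib.Spor.GLTwoAmalgam.Span
import Mathlib.GroupTheory.Subgroup.Simple

/-!
# Identification with a model satisfying the same relations
-/

set_option autoImplicit false

namespace CfsgLib.Spor.GLTwoAmalgam

open Subgroup CfsgLib.Spor.TC

/-- The letters `a, b, g, h` of the certificate for a side, as words in the amalgam's letters. -/
def expS : ℕ → List ℕ
  | 4 => [6] | 5 => [7] | 6 => [4, 4] | 7 => [5, 5]
  | x => if x < 8 then [x] else []

/-- The letters `a, b, g, h` as letters of the first side. -/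
def renS : ℕ → ℕ
  | 4 => 6 | 5 => 7 | 6 => 4 | 7 => 5
  | x => x

theorem sideRels_spec : ∀ w ∈ Side.rels, w.flatMap expS = (w.map renS).flatMap expA ∧
    Aff.evw Aff.affA (w.map renS) = 1 ∧ ∀ x ∈ w.map renS, x < 10 := by decide +kernel

theorem ev_flatMap {P : Type*} [Group P] (g : ℕ → P) (s : ℕ → List ℕ) (w : List ℕ) :
    ev g (w.flatMap s) = ev (fun x => ev g (s x)) w := by
  induction w with
  | nil => rfl
  | cons x w ih => rw [List.flatMap_cons, ev_append, ev_cons, ih]

variable {G : Type*} [Group G] {M : Type*} [Group M]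

/-- What is checked on a model `M` with letters `a, b, f, g, z, n, e`. -/
structure ModelOK (L : ℕ → M) (extra : List (List ℕ)) : Prop where
  inv : ∀ x, L (invLetter 14 x) = (L x)⁻¹
  empty : L 14 = 1
  high : ∀ x, 14 ≤ x → L x = 1
  rels : ∀ w ∈ baseRels ++ extra, ev L w = 1
  side : ∀ w ∈ Side.rels, ev L (w.flatMap expS) = 1
  faith : ∀ v ∈ vecA, ∀ w ∈ linA, ev L ((v ++ w).flatMap expA) = 1 → Aff.evw Aff.affA (v ++ w) = 1

/-- A group with the relations of a certificate of index `n` is isomorphic to a simple model in which the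
letters and a side of order 432 generate the whole group. -/
theorem Frame.iso_of_cert [Finite G] (F : Frame G) [Finite M] [IsSimpleGroup M] (L : ℕ → M)
    (extra : List (List ℕ)) (hL : ModelOK L extra) (hexG : ∀ w ∈ extra, ev F.gvG w = 1)
    {C : Cert} {nE n : ℕ} (hk : C.k = 14) (hsteps : C.SStepsOK 0 nE) (hrows : C.SRowsOK nE n 0 n)
    (hzero : C.rowNode 0 = 0) (hn : 0 < n) (hsub : C.subs = subA)
    (hr : ∀ w ∈ C.rels, w ∈ (baseRels ++ extra).map (freeReduce 14)) (hcard : Nat.card M = 432 * n)
    (hbig : ∀ K : Subgroup M, (∀ x < 14, L x ∈ K) → 432 ∣ Nat.card K → K = ⊤) :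
    Nonempty (G ≃* M) := by
  classical
  let p : ℕ → G × M := fun x => (F.gvG x, L x)
  let P : Subgroup (G × M) := closure (p '' Set.Iio 14)
  have hp : ∀ x, p x ∈ P := fun x => by
    by_cases hx : x < 14
    · exact subset_closure ⟨x, hx, rfl⟩
    · have e : invLetter 14 x = x := by simp [invLetter, Nat.ble_eq_true_of_le (not_lt.1 hx)]
      have : p x = 1 := by
        refine Prod.ext ?_ ?_
        · obtain ⟨y, rfl⟩ : ∃ y, x = y + 14 := ⟨x - 14, by omega⟩
          rfl
        · obtain ⟨y, rfl⟩ : ∃ y, x = y + 14 := ⟨x - 14, by omega⟩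
          rcases y with _ | y
          · exact hL.empty
          · exact hL.high (y + 1 + 14) (by omega)
      rw [this]; exact one_mem _
  let gp : ℕ → P := fun x => ⟨p x, hp x⟩
  let f1 : P →* G := (MonoidHom.fst G M).comp P.subtype
  let f2 : P →* M := (MonoidHom.snd G M).comp P.subtype
  have hev1 : ∀ w, f1 (ev gp w) = ev F.gvG w := fun w => map_ev f1 gp w
  have hev2 : ∀ w, f2 (ev gp w) = ev L w := fun w => map_ev f2 gp w
  have hone : ∀ w : List ℕ, ev F.gvG w = 1 → ev L w = 1 → ev gp w = 1 := fun w h1 h2 =>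
    Subtype.ext (Prod.ext ((hev1 w).trans h1) ((hev2 w).trans h2))
  have hginv : ∀ x, gp (invLetter 14 x) = (gp x)⁻¹ := fun x =>
    Subtype.ext (Prod.ext (F.gvG_inv x) (hL.inv x))
  have hgk : gp 14 = 1 := Subtype.ext (Prod.ext (gv_empty F.a F.b F.f F.g F.z F.n F.e) hL.empty)
  have hgen : closure (gp '' Set.Iio 14) = ⊤ := by
    refine (map_injective P.subtype_injective) ?_
    rw [MonoidHom.map_closure, ← MonoidHom.range_eq_map, range_subtype, ← Set.image_comp]
    rfl
  -- the first side
  let HA : Subgroup P := closure ((fun w => ev gp w) '' {w | w ∈ subA})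
  have hsubs : ∀ w ∈ subA, ev gp w ∈ HA := fun w hw => subset_closure ⟨w, hw, rfl⟩
  have hmem : ∀ x < 10, ev gp (expA x) ∈ HA := by
    intro x hx
    have hsub' : ∀ x < 10, ∃ w ∈ subA, expA x = w ∨ expA x = revInvOnto 14 w [] := by decide +kernel
    obtain ⟨w, hw, h | h⟩ := hsub' x hx
    · rw [h]; exact hsubs w hw
    · rw [h, show ev gp (revInvOnto 14 w []) = (ev gp w)⁻¹ from ev_winv hginv w]
      exact HA.inv_mem (hsubs w hw)
  have hwordmem : ∀ w : List ℕ, (∀ x ∈ w, x < 10) → ev gp (w.flatMap expA) ∈ HA := fun w hw => by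
    rw [ev_flatMap]; exact ev_mem fun x hx => hmem x (hw x hx)
  -- its order is at most 432
  let q : ℕ → P := fun x => ev gp (expS x)
  have hqmem : ∀ x, q x ∈ HA := by
    intro x
    by_cases hx : x < 8
    · have e : expS x = [renS x].flatMap expA ∧ renS x < 10 := by
        interval_cases x <;> decide
      show ev gp (expS x) ∈ HA
      rw [e.1]; exact hwordmem _ (by simpa using e.2)
    · have : expS x = [] := by
        obtain ⟨y, rfl⟩ : ∃ y, x = y + 8 := ⟨x - 8, by omega⟩
        simp [expS]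
      show ev gp (expS x) ∈ HA
      rw [this]; exact HA.one_mem
  let qH : ℕ → HA := fun x => ⟨q x, hqmem x⟩
  have hqinv : ∀ x, qH (invLetter 8 x) = (qH x)⁻¹ := by
    intro x
    refine Subtype.ext ?_
    show ev gp (expS (invLetter 8 x)) = (ev gp (expS x))⁻¹
    by_cases hx : x < 8
    · have e : expS (invLetter 8 x) = revInvOnto 14 (expS x) [] := by
        interval_cases x <;> decide +kernel
      rw [e]; exact ev_winv hginv _
    · have e : invLetter 8 x = x := by simp [invLetter, Nat.ble_eq_true_of_le (not_lt.1 hx)]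
      obtain ⟨y, rfl⟩ : ∃ y, x = y + 8 := ⟨x - 8, by omega⟩
      rw [e]; simp [expS, ev]
  have hqgen : closure (qH '' Set.Iio Side.cert.k) = ⊤ := by
    refine (map_injective HA.subtype_injective) ?_
    rw [MonoidHom.map_closure, ← MonoidHom.range_eq_map, range_subtype, ← Set.image_comp]
    refine le_antisymm ((closure_le _).2 ?_) ((closure_le _).2 ?_)
    · rintro _ ⟨x, -, rfl⟩; exact hqmem x
    · have key : ∀ x < 8, q x ∈ closure ((HA.subtype ∘ qH) '' Set.Iio Side.cert.k) :=
        fun x hx => subset_closure ⟨x, hx, rfl⟩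
      have hz : ev gp [8] = ev gp [1, 3, 0, 2] := by
        refine (inv_mul_eq_one.1 ?_)
        rw [← ev_winv hginv [8], ← ev_append]
        have e9 : winv [8] = [9] := rfl
        refine hone _ ?_ ?_
        · rw [ev_append]; refine mul_eq_one_comm.1 ?_
          rw [e9, ← ev_append]
          exact F.baseRels_one [1, 3, 0, 2, 9] (by decide)
        · rw [ev_append]; refine mul_eq_one_comm.1 ?_
          rw [e9, ← ev_append]
          exact hL.rels [1, 3, 0, 2, 9] (List.mem_append.2 (Or.inl (by decide)))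
      rintro _ ⟨w, hw, rfl⟩
      simp only [subA, Set.mem_setOf_eq, List.mem_cons, List.not_mem_nil, or_false] at hw
      rcases hw with rfl | rfl | rfl | rfl | rfl
      · exact key 0 (by norm_num)
      · exact key 2 (by norm_num)
      · exact key 4 (by norm_num)
      · exact key 6 (by norm_num)
      · show ev gp [8] ∈ _
        rw [hz, show ev gp [1, 3, 0, 2] = q 1 * q 3 * q 0 * q 2 by simp [q, ev, expS, mul_assoc]]
        exact mul_mem (mul_mem (mul_mem (key 1 (by norm_num)) (key 3 (by norm_num))) (key 0 (by norm_num)))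
          (key 2 (by norm_num))
  have hk8 : Side.cert.k = 8 := rfl
  have hHA : Nat.card HA ≤ 432 := by
    have h := Cert.index_le_signed Side.steps_ok Side.rows_ok (by decide +kernel) (by norm_num) qH
      hqinv (Subtype.ext (by show ev gp (expS 8) = 1; rfl))
      (hk8 ▸ (by decide +kernel : ∀ x < 8, invLetter 8 x < 8)) hqgen
      (fun w hw => Subtype.ext ?_) ⊥ (fun w hw => absurd hw (by simp [Side.cert, Side.subs]))
    · rw [index_bot] at h; exact h.2
    · have e : ((ev qH w : HA) : P) = ev q w := map_ev HA.subtype qH w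
      rw [e, show ev q w = ev gp (w.flatMap expS) from (ev_flatMap gp expS w).symm]
      refine hone _ ?_ (hL.side w hw)
      obtain ⟨e1, e2, e3⟩ := sideRels_spec w hw
      rw [e1, F.ev_expA _ e3, F.eqA _ [] (by rw [e2]; rfl)]
      rfl
  have hA432 : Nat.card F.A = 432 := by
    let φ : F.A → (Finset.univ.filter fun X : Aff => X.det ≠ 0) := fun u =>
      ⟨F.rA u, Finset.mem_filter.2 ⟨Finset.mem_univ _, F.detA u u.2⟩⟩
    have hφ : Function.Bijective φ := by
      refine ⟨fun u v e => Subtype.ext (F.injA u u.2 v v.2 (congrArg Subtype.val e)), fun X => ?_⟩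
      obtain ⟨u, hu, e⟩ := F.surjA X (Finset.mem_filter.1 X.2).2
      exact ⟨⟨u, hu⟩, Subtype.ext e⟩
    rw [Nat.card_eq_of_bijective φ hφ, Nat.card_eq_fintype_card, Fintype.card_coe]
    decide +kernel
  let π : HA → G := fun u => f1 u
  have hπ : ∀ a ∈ F.A, ∃ u : HA, π u = a := by
    intro a ha
    obtain ⟨v, hv, w, hw, e, -⟩ := F.exists_wordA ha
    exact ⟨⟨_, hwordmem _ (wordsA_lt v hv w hw)⟩, (hev1 _).trans e⟩
  have hπA : ∀ u : HA, π u ∈ F.A := by
    intro u
    have hle : HA ≤ F.A.comap f1 := (closure_le _).2 (by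
      rintro _ ⟨w, hw, rfl⟩
      show f1 (ev gp w) ∈ F.A
      rw [hev1]; exact F.subA_mem w hw)
    exact hle u.2
  have hbij : Function.Bijective (fun u : HA => (⟨π u, hπA u⟩ : F.A)) := by
    refine (Nat.bijective_iff_surjective_and_card _).2 ⟨fun a => ?_, ?_⟩
    · obtain ⟨u, hu⟩ := hπ a a.2
      exact ⟨u, Subtype.ext hu⟩
    · have := Nat.card_le_card_of_surjective (fun u : HA => (⟨π u, hπA u⟩ : F.A))
        (fun a => (hπ a a.2).imp fun u hu => Subtype.ext hu)
      omega
  have hHA2 : Function.Injective (f2.comp HA.subtype) := by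
    refine (injective_iff_map_eq_one _).2 fun u hu => ?_
    obtain ⟨v, hv, w, hw, e, eaff⟩ := F.exists_wordA (hπA u)
    have hu' : u = ⟨_, hwordmem _ (wordsA_lt v hv w hw)⟩ :=
      hbij.1 (Subtype.ext (((hev1 _).trans e).symm))
    have h1 : ev L ((v ++ w).flatMap expA) = 1 := by
      rw [← hev2]; rw [hu'] at hu; exact hu
    have h2 : π u = 1 := F.injA _ (hπA u) _ F.A.one_mem (by rw [← eaff, hL.faith v hv w hw h1, F.oneA])
    exact hbij.1 (Subtype.ext (h2.trans (map_one f1).symm))
  -- the whole group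
  have hidx : HA.index ≤ n := by
    refine (Cert.index_le_signed hsteps hrows hzero hn gp (hk ▸ hginv) (hk ▸ hgk) (hk ▸ invLetter_lt)
      (hk ▸ hgen) (fun w hw => ?_) HA (hsub ▸ hsubs)).2
    obtain ⟨v, hv, rfl⟩ := List.mem_map.1 (hr w hw)
    rw [← hk, ev_freeReduce C (hk ▸ hginv)]
    refine hone _ ?_ (hL.rels v hv)
    rcases List.mem_append.1 hv with hv | hv
    · exact F.baseRels_one v hv
    · exact hexG v hv
  have hsurj : Function.Surjective f2 := by
    rw [← MonoidHom.range_eq_top]
    refine hbig _ (fun x _ => ⟨gp x, rfl⟩) ?_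
    have hc : Nat.card (HA.map f2) = 432 := by
      rw [← hA432, ← Nat.card_eq_of_bijective _ hbij]
      have : HA.map f2 = (f2.comp HA.subtype).range := by
        rw [MonoidHom.range_comp, range_subtype]
      rw [this]
      exact (Nat.card_congr (MonoidHom.ofInjective hHA2).toEquiv).symm
    rw [← hc, MonoidHom.range_eq_map]
    exact card_dvd_of_le (map_mono le_top)
  have hbij2 : Function.Bijective f2 := by
    refine (Nat.bijective_iff_surjective_and_card _).2 ⟨hsurj, ?_⟩
    have h1 := Nat.card_le_card_of_surjective f2 hsurj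
    have h2 : Nat.card P ≤ 432 * n := by
      rw [← HA.card_mul_index]
      exact Nat.mul_le_mul hHA hidx
    omega
  let ψ : M →* G := f1.comp (MulEquiv.ofBijective f2 hbij2).symm.toMonoidHom
  have hψ : Function.Surjective ψ := by
    have hf1 : Function.Surjective f1 := by
      rw [← MonoidHom.range_eq_top, eq_top_iff, ← F.closure_letters, closure_le]
      rintro _ ⟨x, -, rfl⟩
      exact ⟨gp x, rfl⟩
    exact hf1.comp (MulEquiv.ofBijective f2 hbij2).symm.surjective
  rcases (IsSimpleGroup.eq_bot_or_eq_top_of_normal ψ.ker inferInstance) with h | h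
  · exact ⟨(MulEquiv.ofBijective ψ ⟨(MonoidHom.ker_eq_bot_iff ψ).1 h, hψ⟩).symm⟩
  · exfalso
    refine F.z_ne ?_
    obtain ⟨u, hu⟩ := hψ F.z
    rw [← hu, ← MonoidHom.mem_ker, h]
    exact mem_top _

end CfsgLib.Spor.GLTwoAmalgam
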