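import Cfsg.Agent.Lib.Spor.GLTwoAmalgam.Cent

/-!
# The two quaternion groups in the centralizer of `t`
-/

set_option autoImplicit false

namespace CfsgLib.Spor.GLTwoAmalgam

open Subgroup

/-- In the case `S₃`, an element `z p z` of order two lies in the kernel. -/
theorem map_zpz_eq_one {X : Type*} [Group X] (q : X →* Equiv.Perm (Fin 3)) {z p x : X}
    (hz : z * z * z = 1) (hp : p * p * p = 1) (hx : x * x = 1) (e : x = z * p * z) : q x = 1 := by
  rw [e, map_mul, map_mul]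
  refine s3_zpz (q z) (q p) ?_ ?_ ?_
  · rw [← map_mul, ← map_mul, hz, map_one]
  · rw [← map_mul, ← map_mul, hp, map_one]
  · rw [← map_mul, ← map_mul, ← map_mul, ← e, hx, map_one]

theorem cm_eq_one {X : Type*} [Group X] {a b : X} (h : a * b = b * a) : cm a b = 1 := by
  calc cm a b = a⁻¹ * b⁻¹ * (a * b) := by rw [cm]; group
    _ = 1 := by rw [h]; group

namespace Frame

variable {G : Type*} [Group G] [Finite G] (F : Frame G)

theorem g_conj_k : F.g⁻¹ * F.k * F.g = F.k := by rw [F.k_eq]; group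

theorem n_inv : F.n⁻¹ = F.n * F.t := by
  refine inv_eq_of_mul_eq_one_right ?_
  rw [← mul_assoc, F.n_sq, F.t_sq]

theorem m_inv : F.m⁻¹ = F.m * F.t := by
  refine inv_eq_of_mul_eq_one_right ?_
  rw [← mul_assoc, F.m_sq, F.t_sq]

theorem e_H : F.e ∈ F.H :=
  F.H.mul_mem (F.H.mul_mem (F.H.mul_mem (F.H.inv_mem F.n_H) (F.H.inv_mem F.m_H)) F.n_H) F.m_H

theorem s_H : F.s ∈ F.H := F.H.mul_mem (F.H.mul_mem (F.H.inv_mem F.z_H) F.m_H) F.z_H

theorem r_H : F.r ∈ F.H := F.H.mul_mem (F.H.mul_mem (F.H.inv_mem F.z_H) F.n_H) F.z_H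

theorem h_comm_e : Commute F.h F.e := by
  have e1 : F.h * F.e * F.h⁻¹ = cm (F.h * F.n * F.h⁻¹) (F.h * F.m * F.h⁻¹) := by simp only [e, cm]; group
  rw [F.h_conj_n, F.h_conj_m, F.n_inv, F.m_inv] at e1
  have hn : Commute F.t F.n := F.t_comm_n
  have hm : Commute F.t F.m := F.t_comm_m
  have hti : F.t⁻¹ = F.t := inv_eq_of_mul_eq_one_right F.t_sq
  have e2 : cm (F.n * F.t) (F.m * F.t) = F.e := by
    calc cm (F.n * F.t) (F.m * F.t) = F.t⁻¹ * F.n⁻¹ * F.t⁻¹ * F.m⁻¹ * (F.n * F.t) * (F.m * F.t) := by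
          simp only [cm, mul_inv_rev, mul_assoc]
      _ = F.n⁻¹ * F.m⁻¹ * F.n * F.m * ((F.t * F.t) * (F.t * F.t)) := by
        rw [hti]
        simp only [mul_assoc, (hn.inv_right).left_comm, (hm.inv_right).left_comm, hn.left_comm,
          hm.left_comm, hn.eq, hm.eq]
      _ = F.e := by rw [F.t_sq]; simp [e, cm]
  rw [e2] at e1
  exact mul_inv_eq_iff_eq_mul.1 e1

theorem k_comm_e : Commute F.k F.e := by
  have he : F.k = F.t * F.h := by
    rw [t, mul_assoc, ← F.hk_comm, ← mul_assoc, F.h_sq, one_mul]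
  rw [he]
  exact (F.mem_H.1 F.e_H).symm.mul_left F.h_comm_e

theorem y_facts : cj F.e F.g ∈ F.H ∧ Commute (cj F.e F.g) F.h := by
  have ht : Commute (cj F.e F.g) F.t := by
    rw [← F.g_conj_h]
    show cj F.e F.g * _ = _
    calc cj F.e F.g * (F.g⁻¹ * F.h * F.g) = F.g⁻¹ * (F.e * F.h) * F.g := by simp only [cj]; group
      _ = F.g⁻¹ * (F.h * F.e) * F.g := by rw [F.h_comm_e.eq]
      _ = _ := by simp only [cj]; group
  have hk : Commute (cj F.e F.g) F.k := by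
    rw [← F.g_conj_k]
    show cj F.e F.g * _ = _
    calc cj F.e F.g * (F.g⁻¹ * F.k * F.g) = F.g⁻¹ * (F.e * F.k) * F.g := by simp only [cj]; group
      _ = F.g⁻¹ * (F.k * F.e) * F.g := by rw [F.k_comm_e.eq]
      _ = _ := by simp only [cj]; group
  refine ⟨F.mem_H.2 ht, ?_⟩
  have hh : F.h = F.t * F.k := by rw [t, mul_assoc, F.k_sq, mul_one]
  rw [hh]; exact ht.mul_right hk

theorem pr_cm {a b : G} (ha : a ∈ F.H) (hb : b ∈ F.H)
    (h : cm (F.pr ⟨a, ha⟩) (F.pr ⟨b, hb⟩) = 1) : cm a b = 1 ∨ cm a b = F.t := by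
  refine (F.pr_eq_one (u := ⟨a, ha⟩⁻¹ * ⟨b, hb⟩⁻¹ * ⟨a, ha⟩ * ⟨b, hb⟩)).1 ?_
  simpa [cm] using h

theorem abelian_case (h1 : F.nb * F.mb = F.mb * F.nb)
    (h2 : F.nb * (F.zb⁻¹ * F.mb * F.zb) = F.zb⁻¹ * F.mb * F.zb * F.nb) :
    (cm F.n F.m = 1 ∨ cm F.n F.m = F.t) ∧ (cm F.n F.s = 1 ∨ cm F.n F.s = F.t) := by
  refine ⟨F.pr_cm F.n_H F.m_H (cm_eq_one h1), F.pr_cm F.n_H F.s_H (cm_eq_one ?_)⟩
  have : F.pr ⟨F.s, F.s_H⟩ = F.zb⁻¹ * F.mb * F.zb := by
    simp only [mb, zb, ← map_inv, ← map_mul]; rfl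
  rw [this]; exact h2

/-- The nilpotent case. -/
theorem nilpotent_case (N : Subgroup F.X) (hN : N.Normal) (hcop : (Nat.card N).Coprime 3)
    (h : Nat.card (F.X ⧸ N) = 3 ∨ Nonempty (F.X ⧸ N ≃* Equiv.Perm (Fin 3))) :
    (cm F.n F.m = 1 ∨ cm F.n F.m = F.t) ∧ (cm F.n F.s = 1 ∨ cm F.n F.s = F.t) := by
  classical
  haveI := hN
  have h3N : ¬ 3 ∣ Nat.card N := fun hd =>
    absurd ((Nat.prime_three.coprime_iff_not_dvd.1 hcop.symm) hd) id
  have hzN : F.zb ∉ N := fun hz => h3N (by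
    have hd := orderOf_dvd_natCard (⟨F.zb, hz⟩ : N)
    rwa [Subgroup.orderOf_mk, F.orderOf_zb] at hd)
  obtain h | ⟨⟨ε⟩⟩ := h
  · exfalso
    haveI : Fact (Nat.Prime 3) := ⟨Nat.prime_three⟩
    haveI : IsCyclic (F.X ⧸ N) := isCyclic_of_prime_card h
    letI : CommGroup (F.X ⧸ N) := IsCyclic.commGroup
    have e := congrArg (QuotientGroup.mk' N) F.hb_zb
    rw [map_mul, map_mul, map_inv, map_inv, mul_comm (QuotientGroup.mk' N F.hb), mul_inv_cancel_right] at e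
    have e2 : QuotientGroup.mk' N F.zb * QuotientGroup.mk' N F.zb = 1 := by
      nth_rewrite 2 [e]; exact mul_inv_cancel _
    have e3 := congrArg (QuotientGroup.mk' N) F.zb_cube
    rw [map_mul, map_mul, e2, one_mul, map_one, QuotientGroup.mk'_apply, QuotientGroup.eq_one_iff] at e3
    exact hzN e3
  set q : F.X →* Equiv.Perm (Fin 3) := ε.toMonoidHom.comp (QuotientGroup.mk' N) with hq
  have hker : ∀ x, q x = 1 ↔ x ∈ N := fun x => by
    simp [hq]
  have hnN : F.nb ∈ N := by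
    obtain ⟨p, hp, e⟩ := F.nb_zpz
    exact (hker _).1 (map_zpz_eq_one q F.zb_cube hp F.nb_sq e)
  have hmN : F.mb ∈ N := by
    obtain ⟨p, hp, e⟩ := F.mb_zqz
    exact (hker _).1 (map_zpz_eq_one q F.zb_cube hp F.mb_sq e)
  -- the automorphism of `N`
  let φ : MulAut N := MulAut.conjNormal F.zb⁻¹
  have hφ : ∀ x : N, (φ x : F.X) = F.zb⁻¹ * x * F.zb := fun x => by
    simp [φ, MulAut.conjNormal_apply]
  have hφ3 : ∀ x, φ (φ (φ x)) = x := fun x => by
    refine Subtype.ext ?_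
    rw [hφ, hφ, hφ]
    calc _ = (F.zb * F.zb * F.zb)⁻¹ * (x : F.X) * (F.zb * F.zb * F.zb) := by group
      _ = x := by rw [F.zb_cube]; group
  have hfpf : ∀ x, φ x = x → x = 1 := fun x hx => by
    have e := congrArg Subtype.val hx
    rw [hφ] at e
    have hcm : F.zb * (x : F.X) = x * F.zb := by
      calc F.zb * (x : F.X) = F.zb * (F.zb⁻¹ * x * F.zb) := by rw [e]
        _ = x * F.zb := by group
    have hxz : (x : F.X) ∈ zpowers F.zb := by
      rw [← F.centralizer_zb, mem_centralizer_iff]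
      intro y hy
      obtain ⟨i, rfl⟩ := mem_zpowers_iff.1 hy
      exact ((show Commute F.zb (x : F.X) from hcm).zpow_left i).eq
    refine Subtype.ext (orderOf_eq_one_iff.1 ?_)
    have h1 : orderOf (x : F.X) ∣ 3 := by
      obtain ⟨i, hi⟩ := mem_zpowers_iff.1 hxz
      refine orderOf_dvd_of_pow_eq_one ?_
      rw [← hi, ← zpow_natCast, ← zpow_mul, mul_comm, zpow_mul, zpow_natCast, ← F.orderOf_zb,
        pow_orderOf_eq_one, one_zpow]
    have h2 : orderOf (x : F.X) ∣ Nat.card N := by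
      have := orderOf_dvd_natCard x
      rwa [← Subgroup.orderOf_coe] at this
    exact Nat.eq_one_of_dvd_coprimes hcop h2 h1
  obtain ⟨hnorm, hcen, hlin⟩ := fpf_three_facts φ hφ3 hfpf
  -- members
  have he : F.pr ⟨F.e, F.e_H⟩ = cm F.nb F.mb := by
    simp only [cm, nb, mb, ← map_inv, ← map_mul]; rfl
  have hsx : F.pr ⟨F.s, F.s_H⟩ = F.zb⁻¹ * F.mb * F.zb := by
    simp only [mb, zb, ← map_inv, ← map_mul]; rfl
  have hrx : F.pr ⟨F.r, F.r_H⟩ = F.zb⁻¹ * F.nb * F.zb := by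
    simp only [nb, zb, ← map_inv, ← map_mul]; rfl
  have heN : F.pr ⟨F.e, F.e_H⟩ ∈ N := by
    rw [he]; exact N.mul_mem (N.mul_mem (N.mul_mem (N.inv_mem hnN) (N.inv_mem hmN)) hnN) hmN
  have hcomm : ∀ (x : F.X), x ∈ N → ∀ (u : G) (hu : u ∈ F.H), F.pr ⟨u, hu⟩ = x →
      cm F.e u = 1 ∨ cm F.e u = F.t := fun x hx u hu e => by
    refine F.pr_cm F.e_H hu ?_
    rw [he, e]
    exact congrArg Subtype.val (hcen ⟨F.nb, hnN⟩ ⟨F.mb, hmN⟩ ⟨x, hx⟩)
  have hr' := hcomm _ (by simpa using hN.conj_mem _ hnN F.zb⁻¹) _ F.r_H hrx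
  have hs' := hcomm _ (by simpa using hN.conj_mem _ hmN F.zb⁻¹) _ F.s_H hsx
  -- the square of `e`
  have hee : F.e * F.e = 1 ∨ F.e * F.e = F.t := by
    refine (F.pr_eq_one (u := ⟨F.e, F.e_H⟩ * ⟨F.e, F.e_H⟩)).1 ?_
    rw [map_mul, he]
    have hc := congrArg Subtype.val (hcen ⟨F.nb, hnN⟩ ⟨F.mb, hmN⟩ ⟨F.nb, hnN⟩)
    change cm (cm F.nb F.mb) F.nb = 1 at hc
    have hn2 : F.nb⁻¹ = F.nb := inv_eq_of_mul_eq_one_right F.nb_sq
    calc cm F.nb F.mb * cm F.nb F.mb = F.nb⁻¹ * cm F.nb F.mb * F.nb * cm F.nb F.mb := by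
          rw [mul_assoc F.nb⁻¹, eq_of_cm hc, inv_mul_cancel_left]
      _ = cm (F.nb * F.nb) F.mb := by simp only [cm]; group
      _ = 1 := by rw [F.nb_sq]; simp [cm]
  have hen : cm F.e F.n = (F.e * F.e)⁻¹ := by
    refine eq_inv_of_mul_eq_one_left ?_
    have h0 : cm (F.n * F.n) F.m = 1 := by rw [F.n_sq]; exact cm_eq_one F.t_comm_m.eq
    calc cm F.e F.n * (F.e * F.e) = F.e⁻¹ * ((F.n⁻¹ * F.e * F.n) * F.e) * F.e := by
          simp only [cm]; group
      _ = F.e⁻¹ * cm (F.n * F.n) F.m * F.e := by simp only [e, cm]; group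
      _ = 1 := by rw [h0]; group
  have hem : cm F.e F.m = (F.e * F.e)⁻¹ := by
    refine eq_inv_of_mul_eq_one_right ?_
    have h0 : cm F.n (F.m * F.m) = 1 := by rw [F.m_sq]; exact cm_eq_one F.t_comm_n.symm.eq
    calc F.e * F.e * cm F.e F.m = F.e * (F.m⁻¹ * F.e * F.m) := by simp only [cm]; group
      _ = cm F.n (F.m * F.m) := by simp only [e, cm]; group
      _ = 1 := h0
  -- the element `D`
  have hzzH : F.z * F.z ∈ F.H := F.H.mul_mem F.z_H F.z_H
  have hD : F.D = 1 ∨ F.D = F.t := by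
    have hl := congrArg Subtype.val (hlin ⟨F.nb, hnN⟩ ⟨F.mb, hmN⟩)
    rw [hφ, hφ] at hl
    simp only [cm, coe_mul, coe_inv, hφ] at hl
    refine (F.pr_eq_one (u := (⟨F.n, F.n_H⟩⁻¹ * ⟨F.s, F.s_H⟩⁻¹ * ⟨F.n, F.n_H⟩ * ⟨F.s, F.s_H⟩) *
      (⟨F.z * F.z, hzzH⟩⁻¹ * ⟨F.e, F.e_H⟩ * ⟨F.z * F.z, hzzH⟩)⁻¹)).1 ?_
    rw [map_mul, map_inv, mul_inv_eq_one]
    simp only [map_mul, map_inv]
    rw [he, hsx, show F.pr ⟨F.z * F.z, hzzH⟩ = F.zb * F.zb by
      simp only [zb, ← map_mul]; rfl, cm]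
    refine hl.trans ?_
    group
  -- the main conclusion
  have he_A : F.e ∈ F.A := by
    rcases hee with h2 | h2
    · rw [h2, inv_one] at hen hem
      rcases hr' with h4 | h4
      · rcases hs' with h5 | h5
        · refine F.e_mem_deep hen hem h2 h4 h5 ?_
          obtain ⟨hyH, hyh⟩ := F.y_facts
          have hycm : q (F.pr ⟨_, hyH⟩) * q F.hb = q F.hb * q (F.pr ⟨_, hyH⟩) := by
            rw [← map_mul, ← map_mul, hb, ← map_mul, ← map_mul]
            exact congrArg q (congrArg F.pr (Subtype.ext hyh.eq))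
          have hqz : q F.zb ≠ 1 := fun e => hzN ((hker _).1 e)
          have hqz3 : q F.zb * q F.zb * q F.zb = 1 := by rw [← map_mul, ← map_mul, F.zb_cube, map_one]
          have hqh : q F.hb * q F.zb * (q F.hb)⁻¹ = (q F.zb)⁻¹ := by
            rw [← map_inv, ← map_inv, ← map_mul, ← map_mul, F.hb_zb]
          have key : ∀ (yo : Bool) (hy : F.yv yo ∈ F.H), F.pr ⟨_, hy⟩ ∈ N →
              ∃ ns : Bool, nrm (F.yv yo) F.z = tv F ns := by
            intro yo hy hyN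
            have h0 := congrArg Subtype.val (hnorm ⟨_, hyN⟩)
            simp only [coe_mul, hφ, OneMemClass.coe_one] at h0
            have := (F.pr_eq_one (u := ⟨F.yv yo, hy⟩ * (⟨F.z, F.z_H⟩⁻¹ * ⟨F.yv yo, hy⟩ * ⟨F.z, F.z_H⟩) *
              ((⟨F.z, F.z_H⟩ * ⟨F.z, F.z_H⟩)⁻¹ * ⟨F.yv yo, hy⟩ * (⟨F.z, F.z_H⟩ * ⟨F.z, F.z_H⟩)))).1 (by
              simp only [map_mul, map_inv]
              refine Eq.trans ?_ h0
              simp only [zb]; group)
            rcases this with e | e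
            · exact ⟨false, e⟩
            · exact ⟨true, e⟩
          rcases s3_centralizer _ _ _ hqz hqz3 hqh hycm with e | e
          · exact ⟨false, key false hyH ((hker _).1 e)⟩
          · refine ⟨true, key true (F.H.mul_mem hyH F.h_H) ((hker _).1 ?_)⟩
            rw [show (⟨F.yv true, F.H.mul_mem hyH F.h_H⟩ : F.H) = ⟨_, hyH⟩ * ⟨F.h, F.h_H⟩ from rfl,
              map_mul, map_mul, e, ← map_mul]
            show q (F.pr ⟨F.h, F.h_H⟩ * F.pr ⟨F.h, F.h_H⟩) = 1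
            rw [← map_mul, F.pr_eq_one.2 (Or.inl F.h_sq), map_one]
        · exact F.e_mem_g hen hem h2 h4 h5 hD
      · exact F.e_mem_f hen hem h2 h4 hD
    · rw [h2, inv_eq_of_mul_eq_one_right F.t_sq] at hen hem
      exact F.e_mem_one hen hem h2
  have hhN : F.hb ∉ N := fun hh => hzN ((hker _).1 (by
    have e : q (F.hb * F.zb * F.hb⁻¹) = q F.zb⁻¹ := congrArg q F.hb_zb
    rw [map_mul, map_mul, map_inv, map_inv, (hker _).2 hh, one_mul, inv_one, mul_one] at e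
    have e3 : q F.zb * q F.zb * q F.zb = 1 := by rw [← map_mul, ← map_mul, F.zb_cube, map_one]
    rw [show q F.zb * q F.zb = 1 by nth_rewrite 2 [e]; exact mul_inv_cancel _, one_mul] at e3
    exact e3))
  have he1 : F.e = 1 ∨ F.e = F.t := by
    have h1 := F.mulA F.e he_A F.t F.t_mem
    rw [(F.mem_H.1 F.e_H).eq, F.mulA F.t F.t_mem F.e he_A, F.rA_t] at h1
    have h2 := F.mulA F.e he_A F.h F.hA
    rw [← F.h_comm_e.eq, F.mulA F.h F.hA F.e he_A, F.rA_h] at h2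
    rcases aff_cent_th _ (F.detA F.e he_A) h1.symm h2.symm with h | h | h | h
    · exact Or.inl (F.injA _ he_A _ F.A.one_mem (by rw [h, F.oneA]))
    · refine absurd ?_ hhN
      have e0 : F.e = F.h := F.injA _ he_A _ F.hA (by rw [h, F.rA_h])
      rw [hb, show (⟨F.h, F.h_H⟩ : F.H) = ⟨F.e, F.e_H⟩ from Subtype.ext e0.symm]
      exact heN
    · refine absurd ?_ hhN
      have e0 : F.e = F.k := F.injA _ he_A _ F.kA (by rw [h, F.rA_k])
      have htH : F.t ∈ F.H := F.mem_H.2 (Commute.refl _)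
      have ehk : F.h = F.t * F.e := by rw [e0, t, mul_assoc, F.k_sq, mul_one]
      rw [hb, show (⟨F.h, F.h_H⟩ : F.H) = ⟨F.t, htH⟩ * ⟨F.e, F.e_H⟩ from Subtype.ext ehk, map_mul,
        F.pr_eq_one.2 (Or.inr rfl), one_mul]
      exact heN
    · exact Or.inr (F.injA _ he_A _ F.t_mem (by rw [h, F.rA_t]))
  refine ⟨he1, ?_⟩
  have hcz : cj F.e (F.z * F.z) = F.e := by
    rcases he1 with e | e
    · rw [cj, e]; group
    · have ht := F.t_comm_z.mul_right F.t_comm_z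
      rw [cj, e, mul_assoc, ht.eq, inv_mul_cancel_left]
  have hd : cm F.n F.s = F.D * F.e := by rw [D, hcz]; group
  rw [hd]
  rcases hD with e | e <;> rcases he1 with e' | e' <;> rw [e, e']
  · left; simp
  · right; simp
  · right; simp
  · left; exact F.t_sq

/-- The possibilities for the two quaternion groups. -/
theorem local_cases : ((cm F.n F.m = 1 ∨ cm F.n F.m = F.t) ∧ (cm F.n F.s = 1 ∨ cm F.n F.s = F.t)) ∨
    F.e = F.h ∨ F.e = F.k := by
  have hX : Nat.card (zpowers F.zb) = 3 := by rw [Nat.card_zpowers, F.orderOf_zb]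
  rcases CfsgLib.Char.SelfCentThree.classify (zpowers F.zb) hX F.centralizer_zb with
    ⟨N, hN, -, hcop, h⟩ | ⟨N, hN, habN, h2N, ⟨ε⟩⟩ | ⟨⟨ε⟩⟩
  · exact Or.inl (F.nilpotent_case N hN hcop h)
  · left
    haveI := hN
    set q : F.X →* alternatingGroup (Fin 5) := ε.toMonoidHom.comp (QuotientGroup.mk' N) with hq
    have hker : ∀ x, q x = 1 ↔ x ∈ N := fun x => by
      simp [hq]
    have hz1 : q F.zb ≠ 1 := fun e => by
      have h2 := h2N _ ((hker _).1 e)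
      have h3 := F.zb_cube
      rw [← pow_two, h2, one_mul] at h3
      exact F.zb_ne h3
    have hz3 : q F.zb * q F.zb * q F.zb = 1 := by rw [← map_mul, ← map_mul, F.zb_cube, map_one]
    have hh : q F.hb * q F.zb * (q F.hb)⁻¹ = (q F.zb)⁻¹ := by
      rw [← map_inv, ← map_inv, ← map_mul, ← map_mul, F.hb_zb]
    have hmem : ∀ x : F.X, x * x = 1 → x * F.hb = F.hb * x →
        x * (F.zb⁻¹ * x * F.zb) = F.zb⁻¹ * x * F.zb * x → x ∈ N := fun x h1 h2 h3 =>
      (hker _).1 (a5_trivial _ hz1 hz3 _ hh _ (by rw [← map_mul, h1, map_one])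
        (by rw [← map_mul, h2, map_mul]) (by rw [← map_inv, ← map_mul, ← map_mul, ← map_mul, h3, map_mul]))
    have hnN := hmem _ F.nb_sq F.nb_hb F.nb_zb
    have hmN := hmem _ F.mb_sq F.mb_hb F.mb_zb
    have hsN : F.zb⁻¹ * F.mb * F.zb ∈ N := by simpa using hN.conj_mem _ hmN F.zb⁻¹
    exact F.abelian_case (congrArg Subtype.val (habN.is_comm.comm ⟨_, hnN⟩ ⟨_, hmN⟩))
      (congrArg Subtype.val (habN.is_comm.comm ⟨_, hnN⟩ ⟨_, hsN⟩))
  · have hz : ε F.zb * ε F.zb * ε F.zb = 1 := by rw [← map_mul, ← map_mul, F.zb_cube, map_one]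
    have hz1 : ε F.zb ≠ 1 := fun e => F.zb_ne (ε.map_eq_one_iff.1 e)
    have hh : ε F.hb * ε F.zb * (ε F.hb)⁻¹ = (ε F.zb)⁻¹ := by
      rw [← map_inv, ← map_inv, ← map_mul, ← map_mul, F.hb_zb]
    rcases l27_cases _ _ (ε F.nb) (ε F.mb) hz hz1 hh (by rw [← map_mul, F.nb_sq, map_one])
      (by rw [← map_mul, F.nb_hb, map_mul]) (by rw [← map_inv, ← map_mul, ← map_mul, ← map_mul, F.nb_zb, map_mul])
      (by rw [← map_mul, F.mb_sq, map_one]) (by rw [← map_mul, F.mb_hb, map_mul])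
      (by rw [← map_inv, ← map_mul, ← map_mul, ← map_mul, F.mb_zb, map_mul]) with ⟨h1, h2⟩ | h
    · left
      refine F.abelian_case (ε.injective ?_) (ε.injective ?_)
      · rw [map_mul, map_mul]; exact h1
      · simp only [map_mul, map_inv]; exact h2
    · right
      have hx : cm F.nb F.mb = F.hb := ε.injective (by simp only [cm, map_mul, map_inv]; exact h)
      have hmem : F.h⁻¹ * F.e = 1 ∨ F.h⁻¹ * F.e = F.t := by
        refine (F.pr_eq_one (u := ⟨F.h, F.h_H⟩⁻¹ * ⟨F.e, F.e_H⟩)).1 ?_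
        rw [map_mul, map_inv, inv_mul_eq_one, show F.pr ⟨F.e, F.e_H⟩ = cm F.nb F.mb by
          simp only [cm, nb, mb, ← map_inv, ← map_mul]; rfl, hx]
        rfl
      rcases hmem with h0 | h0
      · exact Or.inl (inv_mul_eq_one.1 h0).symm
      · right
        rw [inv_mul_eq_iff_eq_mul.1 h0, t, ← mul_assoc, F.h_sq, one_mul]

end Frame

end CfsgLib.Spor.GLTwoAmalgam
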