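import Cfsg.Agent.Lib.Spor.GLTwoAmalgam.Ident
import Cfsg.Agent.Lib.Spor.GLTwoAmalgam.Three.All
import Cfsg.Agent.Lib.Classical.SLBasic

/-!
# The model `SL(3,3)`
-/

set_option autoImplicit false

namespace CfsgLib.Spor.GLTwoAmalgam

open Subgroup CfsgLib.Spor.TC Matrix

/-- The matrices of the letters. -/
def matThree : ℕ → Matrix (Fin 3) (Fin 3) (ZMod 3)
  | 0 => !![1, 1, 0; 0, 1, 0; 0, 0, 1] | 1 => !![1, 2, 0; 0, 1, 0; 0, 0, 1]
  | 2 => !![1, 0, 0; 0, 1, 1; 0, 0, 1] | 3 => !![1, 0, 0; 0, 1, 2; 0, 0, 1]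
  | 4 => !![0, 1, 0; 2, 0, 0; 0, 0, 1] | 5 => !![0, 2, 0; 1, 0, 0; 0, 0, 1]
  | 6 => !![1, 0, 0; 0, 0, 1; 0, 2, 0] | 7 => !![1, 0, 0; 0, 0, 2; 0, 1, 0]
  | 8 => !![1, 0, 1; 0, 1, 0; 0, 0, 1] | 9 => !![1, 0, 2; 0, 1, 0; 0, 0, 1]
  | 10 => !![0, 0, 1; 0, 1, 0; 2, 0, 0] | 11 => !![0, 0, 2; 0, 1, 0; 1, 0, 0]
  | _ => 1

theorem det_matThree_lt : ∀ x < 12, (matThree x).det = 1 := by decide +kernel

theorem det_matThree (x : ℕ) : (matThree x).det = 1 := by
  by_cases hx : x < 12
  · exact det_matThree_lt x hx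
  · obtain ⟨y, rfl⟩ : ∃ y, x = y + 12 := ⟨x - 12, by omega⟩
    exact Matrix.det_one

/-- The values of the letters. -/
def letThree (x : ℕ) : Matrix.SpecialLinearGroup (Fin 3) (ZMod 3) := ⟨matThree x, det_matThree x⟩

/-- The matrix of a word. -/
def evThree (w : List ℕ) : Matrix (Fin 3) (Fin 3) (ZMod 3) := (w.map matThree).prod

theorem evThree_spec (w : List ℕ) :
    ((ev letThree w : Matrix.SpecialLinearGroup (Fin 3) (ZMod 3)) : Matrix (Fin 3) (Fin 3) (ZMod 3)) = evThree w := by
  induction w with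
  | nil => rfl
  | cons x w ih =>
    rw [ev_cons, Matrix.SpecialLinearGroup.coe_mul, ih]
    rfl

theorem ev_three_iff (w : List ℕ) : ev letThree w = 1 ↔ evThree w = 1 := by
  rw [← evThree_spec]
  exact ⟨fun h => by rw [h]; rfl, fun h => Subtype.ext h⟩

/-- The two relators of the case of `L₃(3)`. -/
noncomputable def extraThree : List (List ℕ) := [[12], wcom [10] ws ++ wt true]

theorem relsThree : ∀ w ∈ baseRels ++ extraThree, evThree w = 1 := by decide +kernel

theorem sideThree : ∀ w ∈ Side.rels, evThree (w.flatMap expS) = 1 := by decide +kernel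

theorem faithThree : ∀ v ∈ vecA, ∀ w ∈ linA, evThree ((v ++ w).flatMap expA) = 1 →
    Aff.evw Aff.affA (v ++ w) = 1 := by decide +kernel

theorem pairsThree : ∀ x < 14, evThree [invLetter 14 x, x] = 1 := by decide +kernel

theorem letThree_high {x : ℕ} (hx : 12 ≤ x) : letThree x = 1 := by
  obtain ⟨y, rfl⟩ : ∃ y, x = y + 12 := ⟨x - 12, by omega⟩
  rfl

theorem modelThree : ModelOK letThree extraThree where
  inv x := by
    by_cases hx : x < 14
    · have h := (ev_three_iff _).2 (pairsThree x hx)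
      refine eq_inv_of_mul_eq_one_left ?_
      simpa [ev] using h
    · have e : invLetter 14 x = x := by simp [invLetter, Nat.ble_eq_true_of_le (not_lt.1 hx)]
      rw [e, letThree_high (by omega), inv_one]
  empty := letThree_high (by norm_num)
  high x hx := letThree_high (by omega)
  rels w hw := (ev_three_iff w).2 (relsThree w hw)
  side w hw := (ev_three_iff _).2 (sideThree w hw)
  faith v hv w hw h := faithThree v hv w hw ((ev_three_iff _).1 h)

theorem cube_root_three : ∀ r : ZMod 3, r ^ 3 = 1 → r = 1 := by decide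

/-- The case of `L₃(3)`. -/
theorem Frame.iso_three {G : Type*} [Group G] [Finite G] (F : Frame G) (h1 : F.e = 1)
    (h2 : cm F.n F.s = F.t) :
    Nonempty (G ≃* Matrix.ProjectiveSpecialLinearGroup (Fin 3) (ZMod 3)) := by
  haveI : Fact (Nat.Prime 3) := ⟨Nat.prime_three⟩
  have hc : Subgroup.center (Matrix.SpecialLinearGroup (Fin 3) (ZMod 3)) = ⊥ := by
    refine (Subgroup.eq_bot_iff_forall _).2 fun c hc => ?_
    obtain ⟨r, hr, e⟩ := Matrix.SpecialLinearGroup.mem_center_iff.1 hc
    have : r = 1 := cube_root_three r (by simpa using hr)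
    refine Subtype.ext ?_
    rw [← e, this]
    simp
  let π : Matrix.SpecialLinearGroup (Fin 3) (ZMod 3) ≃* Matrix.ProjectiveSpecialLinearGroup (Fin 3) (ZMod 3) :=
    (QuotientGroup.quotientBot.symm).trans (QuotientGroup.quotientMulEquivOfEq hc.symm)
  haveI : IsSimpleGroup (Matrix.SpecialLinearGroup (Fin 3) (ZMod 3)) := by
    haveI : IsSimpleGroup (Matrix.ProjectiveSpecialLinearGroup (Fin 3) (ZMod 3)) :=
      CfsgLib.Classical.psl_isSimple le_rfl
    exact π.isSimpleGroup
  have hcard : Nat.card (Matrix.SpecialLinearGroup (Fin 3) (ZMod 3)) = 432 * 13 := by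
    have h := CfsgLib.Classical.card_psl_mul (F := ZMod 3) (n := 3) (by norm_num)
    rw [Nat.card_congr π.toEquiv]
    revert h
    generalize Nat.card (Matrix.ProjectiveSpecialLinearGroup (Fin 3) (ZMod 3)) = a
    intro h
    rw [Fin.prod_univ_three, ZMod.card, show Nat.gcd 3 (3 - 1) = 1 from rfl] at h
    norm_num at h
    omega
  obtain ⟨e⟩ := F.iso_of_cert letThree extraThree modelThree (fun w hw => by
      simp only [extraThree, List.mem_cons, List.not_mem_nil, or_false] at hw
      rcases hw with rfl | rfl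
      · rw [F.ev_e, h1]
      · exact F.rel_one F.ev_ns (b := true) h2)
    (C := Three.cert) rfl Three.steps_ok Three.rows_ok (by decide +kernel) (by norm_num) (by decide)
    (by decide +kernel) hcard (fun K hK h432 => by
      haveI : Fact (Nat.Prime 13) := ⟨by norm_num⟩
      have hwK : ev letThree [0, 4, 6] ∈ K := ev_mem fun x hx => hK x (by revert x; decide)
      have ho : orderOf (ev letThree [0, 4, 6]) = 13 := by
        refine orderOf_eq_prime ?_ fun e => ?_
        · rw [← ev_powWord]; exact (ev_three_iff _).2 (by decide +kernel)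
        · exact absurd ((ev_three_iff _).1 e) (by decide +kernel)
      have h13 : 13 ∣ Nat.card K := by
        rw [← ho]
        exact (orderOf_submonoid (⟨_, hwK⟩ : K)) ▸ orderOf_dvd_natCard (⟨_, hwK⟩ : K)
      refine Subgroup.eq_top_of_le_card _ ?_
      rw [hcard]
      exact Nat.le_of_dvd Nat.card_pos (Nat.Coprime.mul_dvd_of_dvd_of_dvd (by norm_num) h432 h13))
  exact ⟨e.trans π⟩

end CfsgLib.Spor.GLTwoAmalgam
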