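import Cfsg.Agent.Lib.Spor.GLTwoAmalgam.Ident
import Cfsg.Agent.Lib.Spor.GLTwoAmalgam.Twelve.All
import Cfsg.Agent.Lib.Spor.SylowTwoMathieu
import Cfsg.Agent.Lib.Spor.MathieuSimple
import Cfsg.Agent.Lib.Spor.MathieuPairs

/-!
# The model `M₁₂`
-/

set_option autoImplicit false

namespace CfsgLib.Spor.GLTwoAmalgam

open Subgroup CfsgLib.Spor.TC Cfsg
open scoped Pointwise

/-- Packed values of the letters. -/
def codesTwelve : List ℕ := [
  0xaba65bca30b3d23a290d3996c20041,
  0x9beebaca30759042a9a939a8360402,
  0xbd2aa999d22adac8d8607c0e812424,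
  0xbaab69c1663c5ac750442c9e048c28,
  0xbd2ab9b5ec55a127148938623400c2,
  0xbbab69b0ad8ae50a3d0338549200c2,
  0x8ad563cab02d00275d04999e34b42c,
  0x5522e3caf02ac40b5469999e82302d,
  0xbbaab9c8f0b3c2d2c44051a8848d84,
  0xbbea59c95075981a1c6489960125a8,
  0x7acae38142ad9aca446499ae944830,
  0x2b9eb38940bd1acb448399aa84c032]

/-- The packed value of a letter. -/
def codeTwelve (x : ℕ) : ℕ := codesTwelve.getD x idCode

theorem codeTwelve_ok : ∀ x < 13, inM12 (codeTwelve x) = true := by decide +kernel

theorem codeTwelve_mem (x : ℕ) : isPermCode (codeTwelve x) = true ∧ permOf (codeTwelve x) ∈ Spor.M12 := by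
  by_cases hx : x < 13
  · exact m12_sound (codeTwelve_ok x hx)
  · have : codeTwelve x = codeTwelve 12 := by
      rw [codeTwelve, codeTwelve, List.getD_eq_default _ _ (by simp [codesTwelve]; omega),
        List.getD_eq_default _ _ (by simp [codesTwelve])]
    rw [this]; exact m12_sound (codeTwelve_ok 12 (by norm_num))

/-- The values of the letters. -/
noncomputable def letTwelve (x : ℕ) : ↥Spor.M12 := ⟨permOf (codeTwelve x), (codeTwelve_mem x).2⟩

/-- The action of a word on point numbers. -/
noncomputable def actTwelve (w : List ℕ) (i : ℕ) : ℕ := w.foldr (fun x j => permFn (codeTwelve x) j) i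

theorem actTwelve_spec (w : List ℕ) {i : ℕ} (hi : i < 24) : actTwelve w i < 24 ∧
    ((ev letTwelve w : ↥Spor.M12) : Equiv.Perm GolayPt) (idxPt i) = idxPt (actTwelve w i) := by
  induction w with
  | nil => exact ⟨hi, rfl⟩
  | cons x w ih =>
    refine ⟨permFn_lt (codeTwelve_mem x).1 ih.1, ?_⟩
    rw [ev_cons, Subgroup.coe_mul, Equiv.Perm.mul_apply, ih.2]
    exact permOf_idxPt (codeTwelve_mem x).1 ih.1

/-- A word fixes all points. -/
noncomputable def fixTwelve (w : List ℕ) : Bool := (List.range 24).all fun i => actTwelve w i == i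

theorem ev_eq_one_iff (w : List ℕ) : ev letTwelve w = 1 ↔ fixTwelve w = true := by
  simp only [fixTwelve, List.all_eq_true, List.mem_range, beq_iff_eq]
  constructor
  · intro h i hi
    have e := (actTwelve_spec w hi).2
    rw [h, Subgroup.coe_one, Equiv.Perm.one_apply] at e
    have := congrArg ptIdx e
    rwa [ptIdx_idxPt i hi, ptIdx_idxPt _ (actTwelve_spec w hi).1, eq_comm] at this
  · intro h
    refine Subtype.ext (Equiv.ext fun p => ?_)
    have e := (actTwelve_spec w (ptIdx_lt p)).2
    rw [h _ (ptIdx_lt p), idxPt_ptIdx] at e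
    exact e

/-- The two relators of the case of `M₁₂`. -/
noncomputable def extraTwelve : List (List ℕ) := [[12], wcom [10] ws]

theorem relsTwelve : ∀ w ∈ baseRels ++ extraTwelve, fixTwelve w = true := by decide +kernel

theorem sideTwelve : ∀ w ∈ Side.rels, fixTwelve (w.flatMap expS) = true := by decide +kernel

theorem faithTwelve : ∀ v ∈ vecA, ∀ w ∈ linA, fixTwelve ((v ++ w).flatMap expA) = true →
    Aff.evw Aff.affA (v ++ w) = 1 := by decide +kernel

theorem pairsTwelve : ∀ x < 14, fixTwelve [invLetter 14 x, x] = true := by decide +kernel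

theorem letTwelve_high {x : ℕ} (hx : 12 ≤ x) : letTwelve x = 1 := by
  have : fixTwelve [x] = fixTwelve [12] := by
    have e : codeTwelve x = codeTwelve 12 := by
      rw [codeTwelve, codeTwelve, List.getD_eq_default _ _ (by simp [codesTwelve]; omega),
        List.getD_eq_default _ _ (by simp [codesTwelve])]
    simp [fixTwelve, actTwelve, e]
  have h12 : fixTwelve [12] = true := by decide +kernel
  have h := (ev_eq_one_iff [x]).2 (this.trans h12)
  simpa [ev] using h

theorem modelTwelve : ModelOK letTwelve extraTwelve where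
  inv x := by
    by_cases hx : x < 14
    · have h := (ev_eq_one_iff _).2 (pairsTwelve x hx)
      refine eq_inv_of_mul_eq_one_left ?_
      simpa [ev] using h
    · have e : invLetter 14 x = x := by simp [invLetter, Nat.ble_eq_true_of_le (not_lt.1 hx)]
      rw [e, letTwelve_high (by omega), inv_one]
  empty := letTwelve_high (by norm_num)
  high x hx := letTwelve_high (by omega)
  rels w hw := (ev_eq_one_iff w).2 (relsTwelve w hw)
  side w hw := (ev_eq_one_iff _).2 (sideTwelve w hw)
  faith v hv w hw h := faithTwelve v hv w hw ((ev_eq_one_iff _).1 h)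

theorem isSimple_twelve : IsSimpleGroup ↥Spor.M12 := by
  haveI := isSimpleGroup_stabilizer_dodecad squareDodecad_mem
  have e : (MulAction.stabilizer M24 Spor.squareDodecad).map M24.subtype = Spor.M12 := by
    ext g
    rw [mem_map_stabilizer, mem_M12]
  exact (((Subgroup.equivMapOfInjective _ _ M24.subtype_injective).trans
    (MulEquiv.subgroupCongr e)).symm).isSimpleGroup

theorem bigTwelve (K : Subgroup ↥Spor.M12) (hK : ∀ x < 14, letTwelve x ∈ K) (h432 : 432 ∣ Nat.card K) :
    K = ⊤ := by
  haveI := isSimple_twelve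
  have hord : ∀ (w : List ℕ) (p : ℕ), p.Prime → (∀ x ∈ w, x < 14) →
      fixTwelve (powWord w p) = true → fixTwelve w = false → p ∣ Nat.card K := by
    intro w p hp hw h1 h2
    haveI : Fact p.Prime := ⟨hp⟩
    have hwK : ev letTwelve w ∈ K := ev_mem fun x hx => hK x (hw x hx)
    have ho : orderOf (ev letTwelve w) = p := by
      refine orderOf_eq_prime ?_ fun e => ?_
      · rw [← ev_powWord]; exact (ev_eq_one_iff _).2 h1
      · rw [(ev_eq_one_iff w).1 e] at h2; exact Bool.noConfusion h2
    rw [← ho]
    exact (orderOf_submonoid (⟨_, hwK⟩ : K)) ▸ orderOf_dvd_natCard (⟨_, hwK⟩ : K)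
  have h5 := hord [0, 4, 0, 6] 5 (by norm_num) (by decide) (by decide +kernel) (by decide +kernel)
  have h11 := hord [0, 6, 5] 11 (by norm_num) (by decide) (by decide +kernel) (by decide +kernel)
  have hall : 23760 ∣ Nat.card K := by
    have e1 : 432 * 5 ∣ Nat.card K := Nat.Coprime.mul_dvd_of_dvd_of_dvd (by norm_num) h432 h5
    exact Nat.Coprime.mul_dvd_of_dvd_of_dvd (by norm_num : Nat.Coprime (432 * 5) 11) e1 h11
  have hidx : K.index ∣ 4 := by
    obtain ⟨m, hm⟩ := hall
    have h := K.card_mul_index
    rw [hm, card_sporM12] at h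
    exact ⟨m, by nlinarith [h]⟩
  rcases (IsSimpleGroup.eq_bot_or_eq_top_of_normal K.normalCore inferInstance) with h | h
  · exfalso
    haveI : Fact (0 < K.index) := ⟨Nat.pos_of_ne_zero K.index_ne_zero_of_finite⟩
    have h1 : K.normalCore.index ∣ K.index.factorial := by
      rw [normalCore_eq_ker, index_ker]
      refine (card_subgroup_dvd_card _).trans (dvd_of_eq ?_)
      rw [Nat.card_perm]; rfl
    rw [h, index_bot, card_sporM12] at h1
    have h4 : K.index.factorial ∣ Nat.factorial 4 := Nat.factorial_dvd_factorial (Nat.le_of_dvd (by norm_num) hidx)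
    have := Nat.le_of_dvd (Nat.factorial_pos 4) (h1.trans h4)
    norm_num [Nat.factorial] at this
  · exact top_le_iff.1 (h ▸ normalCore_le K)

/-- The case of `M₁₂`. -/
theorem Frame.iso_twelve {G : Type*} [Group G] [Finite G] (F : Frame G) (h1 : F.e = 1)
    (h2 : cm F.n F.s = 1) : Cfsg.Spor.IsoM12 G := by
  haveI := isSimple_twelve
  refine F.iso_of_cert letTwelve extraTwelve modelTwelve ?_ (C := Twelve.cert) rfl Twelve.steps_ok
    Twelve.rows_ok (by decide +kernel) (by norm_num) (by decide) (by decide +kernel)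
    (by rw [card_sporM12]) bigTwelve
  intro w hw
  simp only [extraTwelve, List.mem_cons, List.not_mem_nil, or_false] at hw
  rcases hw with rfl | rfl
  · rw [F.ev_e, h1]
  · rw [F.ev_ns, h2]

end CfsgLib.Spor.GLTwoAmalgam
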