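import Cfsg.Agent.Lib.Spor.GLTwoAmalgam.Setup
import Cfsg.Agent.Lib.Spor.GLTwoAmalgam.Local
import Cfsg.Agent.Lib.Spor.GLTwoAmalgam.Twelve
import Cfsg.Agent.Lib.Spor.GLTwoAmalgam.Three

/-!
# Two sides `3^2:GL(2,3)` with a common Borel subgroup give `M₁₂` or `L₃(3)`
-/

set_option autoImplicit false

namespace CfsgLib.Spor.GLTwoAmalgam

variable {G : Type*} [Group G] [Finite G]

theorem Frame.main (F : Frame G) : Cfsg.Spor.IsoM12 G ∨
    Nonempty (G ≃* Matrix.ProjectiveSpecialLinearGroup (Fin 3) (ZMod 3)) := by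
  rcases F.local_cases with ⟨h1, h2⟩ | h | h
  · rcases h1 with h1 | h1
    · change F.e = 1 at h1
      rcases h2 with h2 | h2
      · exact Or.inl (F.iso_twelve h1 h2)
      · exact Or.inr (F.iso_three h1 h2)
    · change F.e = F.t at h1
      rcases h2 with h2 | h2
      · exact (F.e_ne_t false h1 h2).elim
      · exact (F.e_ne_t true h1 h2).elim
  · exact absurd h F.e_ne_h
  · exact absurd h F.e_ne_k

end CfsgLib.Spor.GLTwoAmalgam
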