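import Cfsg.Agent.Lib.Spor.GLTwoAmalgam.Frame

/-!
# The hypotheses give a frame
-/

set_option autoImplicit false

namespace CfsgLib.Spor.GLTwoAmalgam

open Subgroup

variable {G : Type*} [Group G]

theorem mem_normalizer_of_inverts (W : Subgroup G) {i : G} (hi : ∀ w ∈ W, i * w * i⁻¹ = w⁻¹) :
    i ∈ normalizer (W : Set G) := by
  refine mem_normalizer_iff.2 fun w => ⟨fun hw => by rw [hi w hw]; exact W.inv_mem hw, fun hw => ?_⟩
  have h := hi _ hw
  have e : w = (i * w * i⁻¹)⁻¹ := by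
    calc w = i⁻¹ * (i * w * i⁻¹) * i := by group
      _ = i⁻¹ * (i * (i * w * i⁻¹)⁻¹ * i⁻¹) * i := by rw [hi _ (W.inv_mem hw), inv_inv]
      _ = _ := by group
  exact e ▸ W.inv_mem hw

/-- An element of the second normal subgroup outside the intersection, commuting with `i`. -/
theorem exists_fixed {A VA VB W : Subgroup G} {x y i : G} (SA : Side A VA x y i)
    (hnB : ∀ v ∈ VB, i * v * i⁻¹ ∈ VB) (hVB : VB ≤ A) (hi2 : i * i = 1)
    (h3 : ∀ v ∈ VB, v ^ 3 = 1) (hc : ∀ v ∈ VB, ∀ w ∈ VB, v * w = w * v)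
    (hW : ∀ v, v ∈ VA → v ∈ VB → v ∈ W) (hWV : W ≤ VB) {v : G} (hv : v ∈ VB) (hvW : v ∉ W) :
    ∃ u ∈ VB, u ∉ W ∧ i * u = u * i := by
  have hii : i⁻¹ = i := inv_eq_of_mul_eq_one_right hi2
  have hv' := hnB v hv
  refine ⟨v * (i * v * i⁻¹), VB.mul_mem hv hv', fun hu => hvW ?_, ?_⟩
  · have hw : i * v * i⁻¹ * v⁻¹ ∈ W :=
      hW _ (SA.rpart_mem (hVB hv)) (VB.mul_mem hv' (VB.inv_mem hv))
    have h2 : v * v ∈ W := by
      have e : v * v = v * (i * v * i⁻¹) * (i * v * i⁻¹ * v⁻¹)⁻¹ := by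
        rw [mul_inv_rev, inv_inv, hc v hv (i * v * i⁻¹)⁻¹ (VB.inv_mem hv'), ← mul_assoc,
          mul_inv_cancel_right]
      rw [e]; exact W.mul_mem hu (W.inv_mem hw)
    have e : v = (v * v)⁻¹ := by
      refine eq_inv_of_mul_eq_one_left ?_
      rw [← mul_assoc]; simpa [pow_succ] using h3 v hv
    rw [e]; exact W.inv_mem h2
  · have e : i * (v * (i * v * i⁻¹)) * i⁻¹ = v * (i * v * i⁻¹) := by
      rw [hc v hv _ hv']
      calc i * (i * v * i⁻¹ * v) * i⁻¹ = (i * i) * v * (i⁻¹ * v * i⁻¹) := by group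
        _ = _ := by rw [hi2, one_mul, hii, hc v hv _ (by rwa [hii] at hv')]
    exact mul_inv_eq_iff_eq_mul.1 e

theorem lin_bA : Aff.lin ((1, 0) + -(0, 1), 0, 1) = Aff.bA := by decide

theorem lin_aB : Aff.lin ((1, 0) + (0, 1), 0, 1) = Aff.aB := by decide

theorem lin_refl : Aff.lin ((1, 0), -(0, 1)) = Aff.refl := by decide

theorem lin_neg : Aff.lin (-(1, 0), -(0, 1)) = Aff.neg := by decide

theorem exists_frame [Finite G] (A B : Subgroup G) (hgen : A ⊔ B = ⊤)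
    (hSylA : ¬ 3 ∣ ((A ⊓ B).subgroupOf A).index) (hSylB : ¬ 3 ∣ ((A ⊓ B).subgroupOf B).index)
    (hcore : ∀ N : Subgroup G, N ≤ A ⊓ B → (∀ a ∈ A, N.map (MulAut.conj a).toMonoidHom = N) →
      (∀ b ∈ B, N.map (MulAut.conj b).toMonoidHom = N) → N = ⊥)
    (eA : A ⧸ Cfsg.pCore 3 A ≃* GL (Fin 2) (ZMod 3)) (eB : B ⧸ Cfsg.pCore 3 B ≃* GL (Fin 2) (ZMod 3))
    (hOA : IsMulCommutative (Cfsg.pCore 3 A) ∧ (∀ x ∈ Cfsg.pCore 3 A, x ^ 3 = 1) ∧
      Nat.card (Cfsg.pCore 3 A) = 9 ∧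
      Subgroup.centralizer ((Cfsg.pCore 3 A : Subgroup A) : Set A) = Cfsg.pCore 3 A)
    (hOB : IsMulCommutative (Cfsg.pCore 3 B) ∧ (∀ x ∈ Cfsg.pCore 3 B, x ^ 3 = 1) ∧
      Nat.card (Cfsg.pCore 3 B) = 9 ∧
      Subgroup.centralizer ((Cfsg.pCore 3 B : Subgroup B) : Set B) = Cfsg.pCore 3 B)
    (S : Sylow 3 ↥(A ⊓ B)) (Z : Subgroup G)
    (hZ : Z = ((S : Subgroup ↥(A ⊓ B)) ⊓ Subgroup.centralizer
      ((S : Subgroup ↥(A ⊓ B)) : Set ↥(A ⊓ B))).map (A ⊓ B).subtype)
    (hNZ : Subgroup.normalizer (Z : Set G) ≤ A ⊓ B) : Nonempty (Frame G) := by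
  classical
  haveI : Fact (Nat.Prime 3) := ⟨Nat.prime_three⟩
  have hA432 : Nat.card A = 432 := by
    rw [← (Cfsg.pCore 3 A).card_mul_index, index, Nat.card_congr eA.toEquiv, card_gl, hOA.2.2.1]
  -- the Sylow subgroup has order 27
  set P : Subgroup G := (S : Subgroup ↥(A ⊓ B)).map (A ⊓ B).subtype with hPdef
  have hPle : P ≤ A ⊓ B := map_subtype_le _
  have hP : Nat.card P = 27 := by
    rw [Nat.card_congr (equivMapOfInjective _ _ (A ⊓ B).subtype_injective).toEquiv.symm]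
    obtain ⟨n, hn⟩ := IsPGroup.iff_card.1 S.2
    have hS1 := (S : Subgroup ↥(A ⊓ B)).card_mul_index
    have hC := ((A ⊓ B).subgroupOf A).card_mul_index
    rw [Nat.card_congr (subgroupOfEquivOfLe inf_le_left).toEquiv, hA432, ← hS1, hn] at hC
    have hnd : ¬ 3 ∣ (S : Subgroup ↥(A ⊓ B)).index * ((A ⊓ B).subgroupOf A).index :=
      Nat.prime_three.not_dvd_mul S.not_dvd_index hSylA
    rw [hn]
    rw [mul_assoc] at hC
    generalize (S : Subgroup ↥(A ⊓ B)).index * ((A ⊓ B).subgroupOf A).index = m at hC hnd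
    rcases Nat.lt_or_ge n 4 with h | h
    · interval_cases n <;> norm_num <;> omega
    · have : 3 ^ 4 ∣ 432 := hC ▸ (pow_dvd_pow 3 h).mul_right m
      norm_num at this
  obtain ⟨VA, hVAP, hA, hVA9, hnA, hA3, hcA, hsA⟩ := side_facts A eA hOA P (hPle.trans inf_le_left) hP
  obtain ⟨VB, hVBP, hB, hVB9, hnB, hB3, hcB, hsB⟩ := side_facts B eB hOB P (hPle.trans inf_le_right) hP
  have hVAA : VA ≤ A := hVAP.trans (hPle.trans inf_le_left)
  have hVAB : VA ≤ B := hVAP.trans (hPle.trans inf_le_right)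
  have hVBA : VB ≤ A := hVBP.trans (hPle.trans inf_le_left)
  have hVBB : VB ≤ B := hVBP.trans (hPle.trans inf_le_right)
  have hne : VA ≠ VB := by
    intro e
    have key : ∀ K : Subgroup G, (∀ g ∈ K, ∀ v ∈ VA, g * v * g⁻¹ ∈ VA) →
        ∀ g ∈ K, VA.map (MulAut.conj g).toMonoidHom = VA := by
      intro K hK g hg
      refine le_antisymm ?_ fun v hv => ?_
      · rintro _ ⟨v, hv, rfl⟩
        exact hK g hg v hv
      · exact ⟨g⁻¹ * v * g, by simpa using hK g⁻¹ (K.inv_mem hg) v hv, by simp [mul_assoc]⟩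
    have := hcore VA (hVAP.trans hPle) (key A hnA) (key B (by rw [e]; exact hnB))
    rw [this, card_bot] at hVA9
    norm_num at hVA9
  set W : Subgroup G := VA ⊓ VB with hWdef
  have hW : Nat.card W = 3 := by
    have h1 : Nat.card W ∣ 9 := hVA9 ▸ card_dvd_of_le inf_le_left
    have h9 : Nat.card W ≠ 9 := fun h => hne (by
      have e1 : W = VA := eq_of_le_of_card_ge inf_le_left (by omega)
      have e2 : W = VB := eq_of_le_of_card_ge inf_le_right (by omega)
      rw [← e1, e2])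
    have h1' : Nat.card W ≠ 1 := fun h => by
      have hbot : W = ⊥ := eq_bot_of_card_eq W h
      let μ : VA × VB → P := fun p => ⟨p.1 * p.2, P.mul_mem (hVAP p.1.2) (hVBP p.2.2)⟩
      have hμ : Function.Injective μ := by
        intro p q e
        have e' : (p.1 : G) * p.2 = q.1 * q.2 := congrArg Subtype.val e
        have hmem : (q.1 : G)⁻¹ * p.1 ∈ W := by
          refine ⟨VA.mul_mem (VA.inv_mem q.1.2) p.1.2, ?_⟩
          have : (q.1 : G)⁻¹ * p.1 = q.2 * (p.2 : G)⁻¹ := by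
            rw [eq_mul_inv_iff_mul_eq, mul_assoc, e', inv_mul_cancel_left]
          rw [this]; exact VB.mul_mem q.2.2 (VB.inv_mem p.2.2)
        rw [hbot, mem_bot, inv_mul_eq_one] at hmem
        refine Prod.ext (Subtype.ext hmem.symm) (Subtype.ext ?_)
        rw [hmem] at e'
        exact mul_left_cancel e'
      have := Nat.card_le_card_of_injective μ hμ
      rw [Nat.card_prod, hVA9, hVB9, hP] at this
      norm_num at this
    rcases (Nat.dvd_prime_pow Nat.prime_three (m := 2)).1 (by norm_num; exact h1) with ⟨i, hi, hc⟩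
    interval_cases i <;> simp_all
  -- the centre of the Sylow subgroup is the intersection
  have hgenP : VA ⊔ VB = P := by
    refine eq_of_le_of_card_ge (sup_le hVAP hVBP) ?_
    have h1 : Nat.card VA ∣ Nat.card (VA ⊔ VB : Subgroup G) := card_dvd_of_le le_sup_left
    have h2 : Nat.card (VA ⊔ VB : Subgroup G) ∣ 27 := hP ▸ card_dvd_of_le (sup_le hVAP hVBP)
    rcases (Nat.dvd_prime_pow Nat.prime_three (m := 3)).1 (by norm_num; exact h2) with ⟨i, hi, hc⟩
    rw [hP, hc]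
    rw [hc, hVA9] at h1
    interval_cases i
    · norm_num at h1
    · norm_num at h1
    · exfalso
      refine hne ?_
      have e1 : VA = VA ⊔ VB := eq_of_le_of_card_ge le_sup_left (by rw [hc, hVA9]; norm_num)
      have e2 : VB = VA ⊔ VB := eq_of_le_of_card_ge le_sup_right (by rw [hc, hVB9]; norm_num)
      rw [e2, ← e1]
    · norm_num
  have hZW : Z = W := by
    rw [hZ]
    refine le_antisymm ?_ fun w hw => ?_
    · rintro _ ⟨u, ⟨huS, huC⟩, rfl⟩
      have hu : ∀ v ∈ P, (u : G) * v = v * u := by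
        rintro _ ⟨v, hv, rfl⟩
        exact congrArg Subtype.val (mem_centralizer_iff.1 huC v hv).symm
      exact ⟨hsA _ u.2.1 fun v hv => hu v (hVAP hv), hsB _ u.2.2 fun v hv => hu v (hVBP hv)⟩
    · obtain ⟨u, hu, rfl⟩ := hVAP hw.1
      refine ⟨u, ⟨hu, mem_centralizer_iff.2 fun v hv => Subtype.ext ?_⟩, rfl⟩
      have hle : VA ⊔ VB ≤ centralizer ({((A ⊓ B).subtype u : G)} : Set G) := sup_le
        (fun v hv => mem_centralizer_singleton_iff.2 (hcA v hv _ hw.1))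
        (fun v hv => mem_centralizer_singleton_iff.2 (hcB v hv _ hw.2))
      exact mem_centralizer_singleton_iff.1 (hle (hgenP ▸ mem_map_of_mem _ hv))
  -- the two involutions
  haveI : Nontrivial W := Finite.one_lt_card_iff_nontrivial.1 (by omega)
  obtain ⟨⟨w0, hw0⟩, hw01⟩ := exists_ne (1 : W)
  have hw01' : w0 ≠ 1 := fun e => hw01 (Subtype.ext e)
  obtain ⟨a0, ha0, ha0W⟩ := SetLike.exists_of_lt (lt_of_le_of_ne (inf_le_left : W ≤ VA)
    (fun e => by rw [← e, hW] at hVA9; norm_num at hVA9))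
  obtain ⟨b0, hb0, hb0W⟩ := SetLike.exists_of_lt (lt_of_le_of_ne (inf_le_right : W ≤ VB)
    (fun e => by rw [← e, hW] at hVB9; norm_num at hVB9))
  have BA0 := basis_of A VA W a0 w0 hVAA hVA9 hnA hA3 hcA hsA inf_le_left ha0 ha0W hw0 hw01'
  have BB0 := basis_of B VB W b0 w0 hVBB hVB9 hnB hB3 hcB hsB inf_le_right hb0 hb0W hw0 hw01'
  obtain ⟨k, hkA, hk⟩ := BA0.exists_inverts hVA9 hA
  obtain ⟨h0, hh0B, hh0⟩ := BB0.exists_inverts hVB9 hB
  have hk2 : k * k = 1 := BA0.sq_of_inverts hkA hk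
  have hh02 : h0 * h0 = 1 := BB0.sq_of_inverts hh0B hh0
  have hkB : k ∈ B :=
    (hNZ (hZW ▸ mem_normalizer_of_inverts W fun w hw => hk w hw.1)).2
  have hwB := BB0.comm_mem_of_inverts hh0B hh0 hkB
  set h : G := h0 * ((h0 * k * h0⁻¹ * k⁻¹) * (h0 * k * h0⁻¹ * k⁻¹)) with hdef
  have hhB : h ∈ B := B.mul_mem hh0B (hVBB (VB.mul_mem hwB hwB))
  have hh : ∀ v ∈ VB, h * v * h⁻¹ = v⁻¹ := by
    intro v hv
    have hu := VB.mul_mem hwB hwB
    calc h * v * h⁻¹ = h0 * (((h0 * k * h0⁻¹ * k⁻¹) * (h0 * k * h0⁻¹ * k⁻¹)) * v *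
          ((h0 * k * h0⁻¹ * k⁻¹) * (h0 * k * h0⁻¹ * k⁻¹))⁻¹) * h0⁻¹ := by rw [hdef]; group
      _ = h0 * v * h0⁻¹ := by rw [hcB _ hu v hv, mul_inv_cancel_right]
      _ = v⁻¹ := hh0 v hv
  have hki : k⁻¹ = k := inv_eq_of_mul_eq_one_right hk2
  have hh0i : h0⁻¹ = h0 := inv_eq_of_mul_eq_one_right hh02
  have hkh : k * h = h * k := by
    set w : G := h0 * k * h0⁻¹ * k⁻¹ with hw
    have hwd : w = h0 * k * h0 * k := by rw [hw, hki, hh0i]
    have e1 : k * h0 * k⁻¹ = h0 * w := by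
      rw [hki, hwd, show h0 * (h0 * k * h0 * k) = (h0 * h0) * k * h0 * k by group, hh02, one_mul]
    have e2 : k * w * k⁻¹ = w⁻¹ := by
      rw [hki, hwd, mul_inv_rev, mul_inv_rev, mul_inv_rev, hki, hh0i]
      group
      simp [zpow_two, hk2, mul_assoc]
    have e3 : k * h * k⁻¹ = h := by
      calc k * h * k⁻¹ = (k * h0 * k⁻¹) * ((k * w * k⁻¹) * (k * w * k⁻¹)) := by rw [hdef]; group
        _ = h0 * (w⁻¹) := by rw [e1, e2]; group
        _ = h0 * (w * w) := by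
          congr 1
          calc w⁻¹ = w⁻¹ * w ^ 3 := by rw [hB3 w hwB, mul_one]
            _ = w * w := by rw [pow_succ, pow_two]; group
    exact mul_inv_eq_iff_eq_mul.1 e3
  have hhA : h ∈ A := (hNZ (hZW ▸ mem_normalizer_of_inverts W fun w hw => hh w hw.2)).1
  have hh2 : h * h = 1 := BB0.sq_of_inverts hhB hh
  -- `a`, `b` and `z`
  have SA0 : Side A VA a0 w0 k := { toBasis := BA0, hi := hkA, inverts := hk }
  have SB0 : Side B VB b0 w0 h := { toBasis := BB0, hi := hhB, inverts := hh }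
  obtain ⟨b, hb, hbW, hkb⟩ := exists_fixed (W := W) SA0 (fun v hv => hnB k hkB v hv) hVBA hk2 hB3 hcB
    (fun v h1 h2 => ⟨h1, h2⟩) inf_le_right hb0 hb0W
  obtain ⟨a, ha, haW, hha⟩ := exists_fixed (W := W) SB0 (fun v hv => hnA h hhA v hv) hVAB hh2 hA3 hcA
    (fun v h1 h2 => ⟨h2, h1⟩) inf_le_left ha0 ha0W
  set z : G := a⁻¹ * b⁻¹ * a * b with hzdef
  have hzA : z ∈ VA := by
    have := hnA b⁻¹ (A.inv_mem (hVBA hb)) a ha
    rw [inv_inv] at this
    rw [hzdef, mul_assoc, mul_assoc, ← mul_assoc b⁻¹]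
    exact VA.mul_mem (VA.inv_mem ha) this
  have hzB : z ∈ VB := by
    have := hnB a⁻¹ (B.inv_mem (hVAB ha)) b⁻¹ (VB.inv_mem hb)
    rw [inv_inv] at this
    rw [hzdef]
    exact VB.mul_mem this hb
  have hz1 : z ≠ 1 := by
    intro e
    have hab : a * b = b * a := by
      calc a * b = b * a * (a⁻¹ * b⁻¹ * a * b) := by group
        _ = b * a := by rw [← hzdef, e, mul_one]
    refine hbW ⟨hsA b (hVBA hb) fun v hv => ?_, hb⟩
    have Bt := basis_of A VA W a w0 hVAA hVA9 hnA hA3 hcA hsA inf_le_left ha haW hw0 hw01'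
    rw [← Bt.vec_cv hv]
    exact ((Commute.pow_right (hab.symm : Commute b a) _).mul_right
      (Commute.pow_right (hcB b hb w0 hw0.2 : Commute b w0) _)).eq
  have hzW : z ∈ W := ⟨hzA, hzB⟩
  have SA : Side A VA a z k :=
    { toBasis := basis_of A VA W a z hVAA hVA9 hnA hA3 hcA hsA inf_le_left ha haW hzW hz1
      hi := hkA
      inverts := hk }
  have SB : Side B VB b z h :=
    { toBasis := basis_of B VB W b z hVBB hVB9 hnB hB3 hcB hsB inf_le_right hb hbW hzW hz1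
      hi := hhB
      inverts := hh }
  obtain ⟨g, hgA, hg⟩ := SA.exists_rho hVA9 hA Aff.gA (by decide)
  obtain ⟨f, hfB, hf⟩ := SB.exists_rho hVB9 hB Aff.fB (by decide)
  -- the values
  have cvA : SA.toBasis.cv a = (1, 0) := (congrArg SA.toBasis.cv SA.toBasis.vec_x).symm.trans
    (SA.toBasis.cv_vec _)
  have cvAz : SA.toBasis.cv z = (0, 1) := (congrArg SA.toBasis.cv SA.toBasis.vec_y).symm.trans
    (SA.toBasis.cv_vec _)
  have cvB : SB.toBasis.cv b = (1, 0) := (congrArg SB.toBasis.cv SB.toBasis.vec_x).symm.trans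
    (SB.toBasis.cv_vec _)
  have cvBz : SB.toBasis.cv z = (0, 1) := (congrArg SB.toBasis.cv SB.toBasis.vec_y).symm.trans
    (SB.toBasis.cv_vec _)
  have negA : ∀ v ∈ VA, SA.toBasis.cv v⁻¹ = -SA.toBasis.cv v := fun v hv => by
    refine SA.toBasis.vec_injective ?_
    rw [SA.toBasis.vec_cv (VA.inv_mem hv), SA.toBasis.vec_neg, SA.toBasis.vec_cv hv]
  have negB : ∀ v ∈ VB, SB.toBasis.cv v⁻¹ = -SB.toBasis.cv v := fun v hv => by
    refine SB.toBasis.vec_injective ?_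
    rw [SB.toBasis.vec_cv (VB.inv_mem hv), SB.toBasis.vec_neg, SB.toBasis.vec_cv hv]
  have hzb : b * z = z * b := hcB b hb z hzB
  have hza : a * z = z * a := hcA a ha z hzA
  have b1 : b * a * b⁻¹ = a * z⁻¹ := by
    calc b * a * b⁻¹ = b * (b⁻¹ * a * b) * z⁻¹ * b⁻¹ := by
          rw [hzdef]; group
      _ = a * (b * z⁻¹ * b⁻¹) := by group
      _ = a * z⁻¹ := by
        rw [show b * z⁻¹ = z⁻¹ * b from ((show Commute b z from hzb).inv_right).eq, mul_inv_cancel_right]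
  have a1 : a * b * a⁻¹ = b * z := by
    calc a * b * a⁻¹ = b * a * z * a⁻¹ := by rw [hzdef]; group
      _ = b * z := by rw [mul_assoc b, hza, mul_assoc, mul_inv_cancel_right]
  have hz' : ∀ u : G, u * z = z * u → u * z * u⁻¹ = z := fun u e => by rw [e, mul_inv_cancel_right]
  refine ⟨{
    A := A, B := B, a := a, b := b, f := f, g := g, z := z, h := h, k := k,
    rA := SA.rho, rB := SB.rho,
    aA := hVAA ha, bA := hVBA hb, gA := hgA, zA := hVAA hzA, hA := hhA, kA := hkA,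
    aB := hVAB ha, bB := hVBB hb, fB := hfB, zB := hVBB hzB, hB := hhB, kB := hkB,
    mulA := fun u hu v hv => SA.rho_mul hu hv, mulB := fun u hu v hv => SB.rho_mul hu hv,
    injA := fun u hu v hv => SA.rho_inj hu hv, injB := fun u hu v hv => SB.rho_inj hu hv,
    oneA := SA.rho_one, oneB := SB.rho_one,
    detA := fun u hu => SA.det_rho hu, detB := fun u hu => SB.det_rho hu,
    surjA := SA.exists_rho hVA9 hA, surjB := SB.exists_rho hVB9 hB,
    rA_a := SA.rho_x, rA_z := SA.rho_y, rA_b := ?_, rA_g := hg, rA_h := ?_, rA_k := ?_,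
    rB_b := SB.rho_x, rB_z := SB.rho_y, rB_a := ?_, rB_f := hf, rB_h := ?_, rB_k := ?_,
    cent_z := ?_, gen := hgen, ne_top := ?_ }⟩
  · rw [SA.rho_of_commute hkb, Basis.mat, b1, hz' b hzb, cvAz,
      SA.toBasis.cv_mul ha (VA.inv_mem hzA), negA z hzA, cvA, cvAz]
    exact lin_bA
  · rw [SA.rho_of_commute hkh, Basis.mat, show h * a * h⁻¹ = a by rw [hha, mul_inv_cancel_right],
      hh z hzB, cvA, negA z hzA, cvAz]
    exact lin_refl
  · rw [SA.rho_of_commute rfl, Basis.mat, hk a ha, hk z hzA, negA a ha, negA z hzA, cvA, cvAz]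
    exact lin_neg
  · rw [SB.rho_of_commute hha, Basis.mat, a1, hz' a hza, cvBz, SB.toBasis.cv_mul hb hzB, cvB, cvBz]
    exact lin_aB
  · rw [SB.rho_of_commute rfl, Basis.mat, hh b hb, hh z hzB, negB b hb, negB z hzB, cvB, cvBz]
    exact lin_neg
  · rw [SB.rho_of_commute hkh.symm, Basis.mat, show k * b * k⁻¹ = b by rw [hkb, mul_inv_cancel_right],
      hk z hzA, cvB, negB z hzB, cvBz]
    exact lin_refl
  · refine fun u hu => (hNZ (hZW ▸ ?_)).1
    have hWz : W = zpowers z := by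
      refine (eq_of_le_of_card_ge (zpowers_le.2 hzW) ?_).symm
      rw [hW, Nat.card_zpowers, orderOf_eq_prime (hA3 z hzA) hz1]
    have hcu : ∀ w ∈ W, u * w = w * u := fun w hw => by
      obtain ⟨i, rfl⟩ := mem_zpowers_iff.1 (hWz ▸ hw)
      exact ((show Commute u z from mem_centralizer_singleton_iff.1 hu).zpow_right i).eq
    refine mem_normalizer_iff.2 fun w => ⟨fun hw => by rw [hcu w hw, mul_inv_cancel_right]; exact hw,
      fun hw => ?_⟩
    have e : w = u * w * u⁻¹ := by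
      have := hcu _ hw
      rw [inv_mul_cancel_right] at this
      exact mul_left_cancel this.symm
    rw [e]; exact hw
  · intro e
    subst e
    have hVn : ∀ b' ∈ B, ∀ v ∈ VA, b' * v * b'⁻¹ ∈ VA := fun b' _ v hv => hnA b' (mem_top _) v hv
    have hVbot := hcore VA (hVAP.trans hPle) (fun g' hg' => ?_) (fun g' _ => ?_)
    · rw [hVbot, card_bot] at hVA9
      norm_num at hVA9
    all_goals
      refine le_antisymm ?_ fun v hv => ?_
      · rintro _ ⟨v, hv, rfl⟩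
        exact hnA g' (mem_top _) v hv
      · exact ⟨g'⁻¹ * v * g', by simpa using hnA g'⁻¹ (mem_top _) v hv, by simp [mul_assoc]⟩

end CfsgLib.Spor.GLTwoAmalgam
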