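import Mathlib.Data.ZMod.Basic
import Mathlib.GroupTheory.Index
import Mathlib.GroupTheory.QuotientGroup.Basic
import Mathlib.Tactic.Ring
import Mathlib.Tactic.FinCases
import Mathlib.Tactic.Group

/-!
# Coordinates on a group `3^2:GL(2,3)`

For a subgroup `A` with a self-centralizing normal subgroup `V` of order nine, a basis of `V` and an
involution inverting `V` give a faithful map from `A` to affine maps of the plane over three elements.
-/

set_option autoImplicit false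

namespace CfsgLib.Spor.GLTwoAmalgam

open Subgroup

/-- An affine map of the plane over three elements: a translation and a matrix `(p q; s u)`. -/
@[ext] structure Aff where
  r1 : ZMod 3
  r2 : ZMod 3
  p : ZMod 3
  q : ZMod 3
  s : ZMod 3
  u : ZMod 3
deriving DecidableEq

namespace Aff

instance : One Aff := ⟨⟨0, 0, 1, 0, 0, 1⟩⟩

instance : Mul Aff := ⟨fun x y =>
  ⟨x.r1 + x.p * y.r1 + x.q * y.r2, x.r2 + x.s * y.r1 + x.u * y.r2,
    x.p * y.p + x.q * y.s, x.p * y.q + x.q * y.u, x.s * y.p + x.u * y.s, x.s * y.q + x.u * y.u⟩⟩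

theorem mul_def (x y : Aff) : x * y =
    ⟨x.r1 + x.p * y.r1 + x.q * y.r2, x.r2 + x.s * y.r1 + x.u * y.r2,
    x.p * y.p + x.q * y.s, x.p * y.q + x.q * y.u, x.s * y.p + x.u * y.s, x.s * y.q + x.u * y.u⟩ := rfl

theorem one_def : (1 : Aff) = ⟨0, 0, 1, 0, 0, 1⟩ := rfl

instance : Monoid Aff where
  mul_assoc x y z := by ext <;> simp only [mul_def] <;> ring
  one_mul x := by ext <;> simp only [mul_def, one_def] <;> ring
  mul_one x := by ext <;> simp only [mul_def, one_def] <;> ring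

/-- An enumeration. -/
def equivProd : Aff ≃ ZMod 3 × ZMod 3 × ZMod 3 × ZMod 3 × ZMod 3 × ZMod 3 where
  toFun x := (x.r1, x.r2, x.p, x.q, x.s, x.u)
  invFun x := ⟨x.1, x.2.1, x.2.2.1, x.2.2.2.1, x.2.2.2.2.1, x.2.2.2.2.2⟩
  left_inv _ := rfl
  right_inv _ := rfl

instance : Fintype Aff := Fintype.ofEquiv _ equivProd.symm

/-- The determinant of the matrix. -/
def det (x : Aff) : ZMod 3 := x.p * x.u - x.q * x.s

theorem det_mul (x y : Aff) : (x * y).det = x.det * y.det := by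
  simp only [det, mul_def]; ring

/-- A translation. -/
def tr (c : ZMod 3 × ZMod 3) : Aff := ⟨c.1, c.2, 1, 0, 0, 1⟩

/-- A linear map. -/
def lin (M : (ZMod 3 × ZMod 3) × ZMod 3 × ZMod 3) : Aff := ⟨0, 0, M.1.1, M.2.1, M.1.2, M.2.2⟩

/-- The image of a vector under the matrix. -/
def act (x : Aff) (c : ZMod 3 × ZMod 3) : ZMod 3 × ZMod 3 := (x.p * c.1 + x.q * c.2, x.s * c.1 + x.u * c.2)

theorem card_linear : ((Finset.univ : Finset Aff).filter
    fun x => x.r1 = 0 ∧ x.r2 = 0 ∧ x.det ≠ 0).card = 48 := by decide +kernel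

end Aff

variable {G : Type*} [Group G]

/-- A subgroup `A` with a normal subgroup `V` of order nine, self-centralizing and with basis `x, y`. -/
structure Basis (A V : Subgroup G) (x y : G) : Prop where
  le : V ≤ A
  normal : ∀ g ∈ A, ∀ v ∈ V, g * v * g⁻¹ ∈ V
  hx : x ∈ V
  hy : y ∈ V
  x3 : x ^ 3 = 1
  y3 : y ^ 3 = 1
  comm : Commute x y
  coord : ∀ v ∈ V, ∃ c : ZMod 3 × ZMod 3, v = x ^ c.1.val * y ^ c.2.val
  inj : ∀ c : ZMod 3 × ZMod 3, x ^ c.1.val * y ^ c.2.val = 1 → c = 0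
  selfCent : ∀ g ∈ A, g * x = x * g → g * y = y * g → g ∈ V

namespace Basis

variable {A V : Subgroup G} {x y : G}

/-- The element with given coordinates. -/
def vec (_ : Basis A V x y) (c : ZMod 3 × ZMod 3) : G := x ^ c.1.val * y ^ c.2.val

variable (B : Basis A V x y)
include B

theorem vec_mem (c : ZMod 3 × ZMod 3) : B.vec c ∈ V :=
  V.mul_mem (V.pow_mem B.hx _) (V.pow_mem B.hy _)

theorem vec_add (c d : ZMod 3 × ZMod 3) : B.vec (c + d) = B.vec c * B.vec d := by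
  have hp : ∀ (w : G), w ^ 3 = 1 → ∀ i j : ZMod 3, w ^ (i + j).val = w ^ i.val * w ^ j.val := by
    intro w hw i j
    rw [← pow_add, ZMod.val_add, ← pow_eq_pow_mod _ hw]
  unfold vec
  rw [Prod.fst_add, Prod.snd_add, hp x B.x3, hp y B.y3, mul_assoc (x ^ c.1.val),
    ← mul_assoc (x ^ d.1.val), (B.comm.pow_pow d.1.val c.2.val).eq, mul_assoc, mul_assoc]

theorem vec_zero : B.vec 0 = 1 := by simp [vec]

theorem vec_neg (c : ZMod 3 × ZMod 3) : B.vec (-c) = (B.vec c)⁻¹ :=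
  eq_inv_of_mul_eq_one_left (by rw [← B.vec_add, neg_add_cancel, B.vec_zero])

theorem vec_injective : Function.Injective B.vec := fun c d h => by
  refine sub_eq_zero.1 (B.inj _ ?_)
  show B.vec (c - d) = 1
  rw [sub_eq_add_neg, B.vec_add, B.vec_neg, h, mul_inv_cancel]

theorem vec_x : B.vec (1, 0) = x := by simp [vec, ZMod.val_one]

theorem vec_y : B.vec (0, 1) = y := by simp [vec, ZMod.val_one]

theorem vec_pow (c : ZMod 3 × ZMod 3) (n : ℕ) : B.vec c ^ n = B.vec (n • c) := by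
  induction n with
  | zero => rw [pow_zero, zero_smul, B.vec_zero]
  | succ n ih => rw [pow_succ, ih, succ_nsmul, B.vec_add]

open Classical in
/-- The coordinates. -/
noncomputable def cv (v : G) : ZMod 3 × ZMod 3 :=
  if h : ∃ c, v = B.vec c then h.choose else 0

theorem vec_cv {v : G} (hv : v ∈ V) : B.vec (B.cv v) = v := by
  have h : ∃ c, v = B.vec c := B.coord v hv
  rw [cv, dif_pos h]
  exact h.choose_spec.symm

theorem cv_vec (c : ZMod 3 × ZMod 3) : B.cv (B.vec c) = c :=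
  B.vec_injective (B.vec_cv (B.vec_mem c))

theorem cv_mul {v w : G} (hv : v ∈ V) (hw : w ∈ V) : B.cv (v * w) = B.cv v + B.cv w := by
  refine B.vec_injective ?_
  rw [B.vec_cv (V.mul_mem hv hw), B.vec_add, B.vec_cv hv, B.vec_cv hw]

theorem cube {v : G} (hv : v ∈ V) : v ^ 3 = 1 := by
  rw [← B.vec_cv hv, B.vec_pow, ← B.vec_zero]
  congr 1
  ext <;> simp [show (3 : ZMod 3) = 0 from rfl]

/-- The matrix of the action of an element. -/
noncomputable def mat (g : G) : Aff := Aff.lin (B.cv (g * x * g⁻¹), B.cv (g * y * g⁻¹))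

theorem act_mat {g : G} (hg : g ∈ A) (c : ZMod 3 × ZMod 3) :
    B.cv (g * B.vec c * g⁻¹) = (B.mat g).act c := by
  refine B.vec_injective ?_
  rw [B.vec_cv (B.normal g hg _ (B.vec_mem c))]
  have e : g * B.vec c * g⁻¹ = (g * x * g⁻¹) ^ c.1.val * (g * y * g⁻¹) ^ c.2.val := by
    rw [conj_pow, conj_pow, vec]; group
  rw [e, ← B.vec_cv (B.normal g hg x B.hx), ← B.vec_cv (B.normal g hg y B.hy), B.vec_pow, B.vec_pow,
    ← B.vec_add]
  congr 1
  simp only [mat, Aff.lin, Aff.act]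
  ext <;> simp [mul_comm]

theorem mat_mul {g h : G} (hg : g ∈ A) (hh : h ∈ A) : B.mat (g * h) = B.mat g * B.mat h := by
  have key : ∀ v ∈ V, B.cv ((g * h) * v * (g * h)⁻¹) = (B.mat g).act (B.cv (h * v * h⁻¹)) := by
    intro v hv
    rw [← B.act_mat hg, B.vec_cv (B.normal h hh v hv)]
    congr 1; group
  have h1 := key x B.hx
  have h2 := key y B.hy
  simp only [mat, Aff.lin, Aff.act, Aff.mul_def] at h1 h2 ⊢
  rw [h1, h2]
  ext <;> simp

theorem mat_one : B.mat 1 = 1 := by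
  have h1 : B.cv x = (1, 0) := (congrArg B.cv B.vec_x).symm.trans (B.cv_vec _)
  have h2 : B.cv y = (0, 1) := (congrArg B.cv B.vec_y).symm.trans (B.cv_vec _)
  simp [mat, Aff.lin, Aff.one_def, h1, h2]

theorem det_mat {g : G} (hg : g ∈ A) : (B.mat g).det ≠ 0 := fun h => by
  have e := congrArg Aff.det (B.mat_mul hg (A.inv_mem hg))
  rw [mul_inv_cancel, B.mat_one, Aff.det_mul, h, zero_mul] at e
  exact absurd e (by decide)

theorem mem_of_mat_eq_one {g : G} (hg : g ∈ A) (h : B.mat g = 1) : g ∈ V := by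
  have h1 : B.cv (g * x * g⁻¹) = (1, 0) := Prod.ext (congrArg Aff.p h) (congrArg Aff.s h)
  have h2 : B.cv (g * y * g⁻¹) = (0, 1) := Prod.ext (congrArg Aff.q h) (congrArg Aff.u h)
  have e1 := congrArg B.vec h1
  have e2 := congrArg B.vec h2
  rw [B.vec_cv (B.normal g hg x B.hx), B.vec_x] at e1
  rw [B.vec_cv (B.normal g hg y B.hy), B.vec_y] at e2
  exact B.selfCent g hg (mul_inv_eq_iff_eq_mul.1 e1) (mul_inv_eq_iff_eq_mul.1 e2)

theorem mat_of_mem {v : G} (hv : v ∈ V) : B.mat v = 1 := by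
  have hc : ∀ w ∈ V, v * w * v⁻¹ = w := fun w hw => by
    rw [← B.vec_cv hv, ← B.vec_cv hw, ← B.vec_add, add_comm, B.vec_add, mul_inv_cancel_right]
  have := B.mat_one
  simp only [mat] at this ⊢
  rw [hc x B.hx, hc y B.hy]
  simpa using this

/-- Every invertible matrix occurs. -/
theorem exists_mat [Finite G] (hV : Nat.card V = 9) (hA : Nat.card A = 432) (X : Aff) (h1 : X.r1 = 0)
    (h2 : X.r2 = 0) (hd : X.det ≠ 0) : ∃ g ∈ A, B.mat g = X := by
  classical
  let φ : A →* Aff :=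
    { toFun := fun g => B.mat (g : G)
      map_one' := B.mat_one
      map_mul' := fun g h => B.mat_mul g.2 h.2 }
  have hker : φ.toHomUnits.ker = V.subgroupOf A := by
    ext g
    rw [MonoidHom.mem_ker, mem_subgroupOf]
    exact ⟨fun h => B.mem_of_mat_eq_one g.2 (congrArg Units.val h),
      fun h => Units.ext (B.mat_of_mem h)⟩
  have hidx : (V.subgroupOf A).index = 48 := by
    have := (V.subgroupOf A).card_mul_index
    rw [Nat.card_congr (subgroupOfEquivOfLe B.le).toEquiv, hV, hA] at this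
    omega
  have hr : Nat.card φ.toHomUnits.range = 48 := by rw [← index_ker, hker, hidx]
  let S : Finset Aff := (Finset.univ : Finset Aff).filter fun x => x.r1 = 0 ∧ x.r2 = 0 ∧ x.det ≠ 0
  let ι : φ.toHomUnits.range → S := fun u => ⟨((u : Affˣ) : Aff), by
    obtain ⟨g, hg⟩ := u.2
    rw [← hg]
    exact Finset.mem_filter.2 ⟨Finset.mem_univ _, rfl, rfl, B.det_mat g.2⟩⟩
  have hι : Function.Injective ι := fun u v e =>
    Subtype.ext (Units.ext (congrArg Subtype.val e))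
  have hb : Function.Bijective ι := by
    rw [Nat.bijective_iff_injective_and_card, hr]
    exact ⟨hι, by rw [Nat.card_eq_fintype_card, Fintype.card_coe, Aff.card_linear]⟩
  obtain ⟨u, hu⟩ := hb.2 ⟨X, Finset.mem_filter.2 ⟨Finset.mem_univ _, h1, h2, hd⟩⟩
  obtain ⟨g, hg⟩ := u.2
  exact ⟨g, g.2, (congrArg Units.val hg).trans (congrArg Subtype.val hu)⟩

/-- A commutator with an element inverting `V` lies in `V`. -/
theorem comm_mem_of_inverts {i : G} (hi : i ∈ A) (hinv : ∀ v ∈ V, i * v * i⁻¹ = v⁻¹) {g : G} (hg : g ∈ A) :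
    i * g * i⁻¹ * g⁻¹ ∈ V := by
  have key : ∀ v ∈ V, (i * g * i⁻¹ * g⁻¹) * v = v * (i * g * i⁻¹ * g⁻¹) := by
    intro v hv
    have hu : g⁻¹ * v * g ∈ V := by simpa using B.normal g⁻¹ (A.inv_mem hg) v hv
    have h1 : i⁻¹ * (g⁻¹ * v * g) * i = (g⁻¹ * v * g)⁻¹ := by
      calc i⁻¹ * (g⁻¹ * v * g) * i = i⁻¹ * (i * (g⁻¹ * v * g)⁻¹ * i⁻¹) * i := by
            rw [hinv _ (V.inv_mem hu), inv_inv]
        _ = (g⁻¹ * v * g)⁻¹ := by group
    have h2 : (i * g * i⁻¹ * g⁻¹) * v * (i * g * i⁻¹ * g⁻¹)⁻¹ = v := by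
      calc (i * g * i⁻¹ * g⁻¹) * v * (i * g * i⁻¹ * g⁻¹)⁻¹
          = i * (g * (i⁻¹ * (g⁻¹ * v * g) * i) * g⁻¹) * i⁻¹ := by group
        _ = i * v⁻¹ * i⁻¹ := by rw [h1]; group
        _ = v := by rw [hinv _ (V.inv_mem hv), inv_inv]
    exact mul_inv_eq_iff_eq_mul.1 h2
  exact B.selfCent _ (A.mul_mem (A.mul_mem (A.mul_mem hi hg) (A.inv_mem hi)) (A.inv_mem hg))
    (key x B.hx) (key y B.hy)

/-- An element inverting `V` is an involution. -/
theorem sq_of_inverts {i : G} (hi : i ∈ A) (hinv : ∀ v ∈ V, i * v * i⁻¹ = v⁻¹) : i * i = 1 := by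
  have key : ∀ v ∈ V, (i * i) * v = v * (i * i) := fun v hv => by
    refine mul_inv_eq_iff_eq_mul.1 ?_
    calc (i * i) * v * (i * i)⁻¹ = i * (i * v * i⁻¹) * i⁻¹ := by group
      _ = v := by rw [hinv v hv, hinv _ (V.inv_mem hv), inv_inv]
  have hm : i * i ∈ V := B.selfCent _ (A.mul_mem hi hi) (key x B.hx) (key y B.hy)
  have h1 : (i * i)⁻¹ = i * i := by rw [← hinv _ hm]; group
  have h2 : (i * i) ^ 2 = 1 := by rw [pow_two]; nth_rewrite 1 [← h1]; exact inv_mul_cancel _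
  have h3 := B.cube hm
  rw [pow_succ, h2, one_mul] at h3
  exact h3

/-- There is an element inverting `V`. -/
theorem exists_inverts [Finite G] (hV : Nat.card V = 9) (hA : Nat.card A = 432) :
    ∃ i ∈ A, ∀ v ∈ V, i * v * i⁻¹ = v⁻¹ := by
  obtain ⟨i, hi, hm⟩ := B.exists_mat hV hA ⟨0, 0, -1, 0, 0, -1⟩ rfl rfl (by decide)
  refine ⟨i, hi, fun v hv => ?_⟩
  conv_lhs => rw [← B.vec_cv (B.normal i hi v hv)]
  have h := B.act_mat hi (B.cv v)
  rw [B.vec_cv hv, hm] at h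
  rw [h, Aff.act, ← congrArg Inv.inv (B.vec_cv hv), ← B.vec_neg]
  congr 1
  ext <;> simp

end Basis

/-- Coordinates with an involution inverting `V`. -/
structure Side (A V : Subgroup G) (x y i : G) : Prop extends Basis A V x y where
  hi : i ∈ A
  inverts : ∀ v ∈ V, i * v * i⁻¹ = v⁻¹

namespace Side

variable {A V : Subgroup G} {x y i : G} (S : Side A V x y i)
include S

/-- The translation part of an element. -/
theorem rpart_mem {g : G} (hg : g ∈ A) : i * g * i⁻¹ * g⁻¹ ∈ V :=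
  S.toBasis.comm_mem_of_inverts S.hi S.inverts hg

/-- The affine map of an element. -/
noncomputable def rho (g : G) : Aff :=
  Aff.tr (S.toBasis.cv (i * g * i⁻¹ * g⁻¹)) * S.toBasis.mat g

theorem rho_mul {g h : G} (hg : g ∈ A) (hh : h ∈ A) : S.rho (g * h) = S.rho g * S.rho h := by
  have e : i * (g * h) * i⁻¹ * (g * h)⁻¹ =
      (i * g * i⁻¹ * g⁻¹) * (g * (i * h * i⁻¹ * h⁻¹) * g⁻¹) := by group
  simp only [rho]
  rw [e, S.toBasis.cv_mul (S.rpart_mem hg) (S.toBasis.normal g hg _ (S.rpart_mem hh)),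
    ← congrArg (fun w => g * w * g⁻¹) (S.toBasis.vec_cv (S.rpart_mem hh)), S.toBasis.act_mat hg,
    S.toBasis.mat_mul hg hh]
  simp only [Aff.tr, Aff.act, Aff.mul_def, Basis.mat, Aff.lin]
  ext <;> simp <;> ring

theorem rho_of_commute {g : G} (hg : i * g = g * i) : S.rho g = S.toBasis.mat g := by
  have e : i * g * i⁻¹ * g⁻¹ = 1 := by rw [hg]; group
  rw [rho, e]
  conv_lhs => rw [← S.toBasis.vec_zero, S.toBasis.cv_vec]
  exact one_mul _

theorem rho_of_mem {v : G} (hv : v ∈ V) : S.rho v = Aff.tr (S.toBasis.cv v) := by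
  have e : i * v * i⁻¹ * v⁻¹ = v := by
    rw [S.inverts v hv]
    have h3 := S.toBasis.cube hv
    calc v⁻¹ * v⁻¹ = v⁻¹ * v⁻¹ * v ^ 3 := by rw [h3, mul_one]
      _ = v := by group
  rw [rho, e, S.toBasis.mat_of_mem hv, mul_one]

theorem rho_one : S.rho 1 = 1 := by
  rw [S.rho_of_commute (by simp), S.toBasis.mat_one]

theorem rho_x : S.rho x = Aff.tr (1, 0) := by
  rw [S.rho_of_mem S.hx,
    (congrArg S.toBasis.cv S.toBasis.vec_x).symm.trans (S.toBasis.cv_vec _)]

theorem rho_y : S.rho y = Aff.tr (0, 1) := by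
  rw [S.rho_of_mem S.hy,
    (congrArg S.toBasis.cv S.toBasis.vec_y).symm.trans (S.toBasis.cv_vec _)]

theorem eq_one_of_rho {g : G} (hg : g ∈ A) (h : S.rho g = 1) : g = 1 := by
  have hm : S.toBasis.mat g = 1 := by
    have h3 := congrArg Aff.p h; have h4 := congrArg Aff.q h; have h5 := congrArg Aff.s h
    have h6 := congrArg Aff.u h
    simp only [rho, Aff.mul_def, Aff.tr, one_mul, zero_mul, add_zero, zero_add] at h3 h4 h5 h6
    refine Aff.ext rfl rfl ?_ ?_ ?_ ?_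
    exacts [h3, h4, h5, h6]
  have hv := S.toBasis.mem_of_mat_eq_one hg hm
  rw [S.rho_of_mem hv] at h
  have hc : S.toBasis.cv g = 0 := Prod.ext (congrArg Aff.r1 h) (congrArg Aff.r2 h)
  rw [← S.toBasis.vec_cv hv, hc, S.toBasis.vec_zero]

theorem rho_inj {g h : G} (hg : g ∈ A) (hh : h ∈ A) (e : S.rho g = S.rho h) : g = h := by
  refine inv_mul_eq_one.1 (S.eq_one_of_rho (A.mul_mem (A.inv_mem hg) hh) ?_)
  rw [S.rho_mul (A.inv_mem hg) hh, ← e, ← S.rho_mul (A.inv_mem hg) hg, inv_mul_cancel, S.rho_one]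

theorem det_rho {g : G} (hg : g ∈ A) : (S.rho g).det ≠ 0 := fun h => by
  have e := congrArg Aff.det (S.rho_mul hg (A.inv_mem hg))
  rw [mul_inv_cancel, S.rho_one, Aff.det_mul, h, zero_mul] at e
  exact absurd e (by decide)

/-- Every invertible affine map is the image of an element. -/
theorem exists_rho [Finite G] (hV : Nat.card V = 9) (hA : Nat.card A = 432) (X : Aff) (hd : X.det ≠ 0) :
    ∃ g ∈ A, S.rho g = X := by
  obtain ⟨g, hg, hm⟩ := S.toBasis.exists_mat hV hA ⟨0, 0, X.p, X.q, X.s, X.u⟩ rfl rfl hd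
  have hv := V.inv_mem (S.rpart_mem hg)
  refine ⟨S.toBasis.vec (X.r1, X.r2) * ((i * g * i⁻¹ * g⁻¹)⁻¹ * g),
    A.mul_mem (S.le (S.toBasis.vec_mem _)) (A.mul_mem (S.le hv) hg), ?_⟩
  rw [S.rho_mul (S.le (S.toBasis.vec_mem _)) (A.mul_mem (S.le hv) hg), S.rho_mul (S.le hv) hg,
    S.rho_of_mem (S.toBasis.vec_mem _), S.rho_of_mem hv, S.toBasis.cv_vec, rho, hm]
  have e : S.toBasis.cv (i * g * i⁻¹ * g⁻¹)⁻¹ = -S.toBasis.cv (i * g * i⁻¹ * g⁻¹) := by
    refine S.toBasis.vec_injective ?_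
    rw [S.toBasis.vec_cv hv, S.toBasis.vec_neg, S.toBasis.vec_cv (S.rpart_mem hg)]
  rw [e]
  simp only [Aff.tr, Aff.mul_def]
  ext <;> simp

end Side

end CfsgLib.Spor.GLTwoAmalgam
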