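import Cfsg.Agent.Lib.Spor.GLTwoAmalgam.Cases
import Cfsg.Agent.Lib.Spor.TC.Word
import Cfsg.Agent.Lib.Spor.GLTwoAmalgam.Side.All
import Cfsg.Agent.Lib.Spor.GLTwoAmalgam.One0.All
import Cfsg.Agent.Lib.Spor.GLTwoAmalgam.One1.All
import Cfsg.Agent.Lib.Spor.GLTwoAmalgam.SevenH.All
import Cfsg.Agent.Lib.Spor.GLTwoAmalgam.SevenK.All

/-!
# Generation by the letters, and the collapsing cases
-/

set_option autoImplicit false

namespace CfsgLib.Spor.GLTwoAmalgam

open Subgroup CfsgLib.Spor.TC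

variable {G : Type*} [Group G]

/-- Words for the translations of the first side. -/
def vecA : List (List ℕ) := [[], [0], [1], [8], [9], [0, 8], [0, 9], [1, 8], [1, 9]]

/-- Words for the linear maps of the first side. -/
def linA : List (List ℕ) :=
  [[], [2], [3]].flatMap fun b => [[], [4]].flatMap fun h => [[], [6, 6]].flatMap fun k =>
    [[], [6], [6, 2], [6, 3]].map fun g => b ++ h ++ k ++ g

/-- Words for the translations of the second side. -/
def vecB : List (List ℕ) := [[], [2], [3], [8], [9], [2, 8], [2, 9], [3, 8], [3, 9]]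

/-- Words for the linear maps of the second side. -/
def linB : List (List ℕ) :=
  [[], [0], [1]].flatMap fun a => [[], [4, 4]].flatMap fun h => [[], [6]].flatMap fun k =>
    [[], [4], [4, 0], [4, 1]].map fun f => a ++ h ++ k ++ f

theorem vecA_spec : ∀ c : ZMod 3 × ZMod 3, ∃ v ∈ vecA, Aff.evw Aff.affA v = Aff.tr c := by decide +kernel

theorem linA_spec : ∀ p q s u : ZMod 3, p * u - q * s ≠ 0 →
    ∃ w ∈ linA, Aff.evw Aff.affA w = ⟨0, 0, p, q, s, u⟩ := by decide +kernel

theorem vecB_spec : ∀ c : ZMod 3 × ZMod 3, ∃ v ∈ vecB, Aff.evw Aff.affB v = Aff.tr c := by decide +kernel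

theorem linB_spec : ∀ p q s u : ZMod 3, p * u - q * s ≠ 0 →
    ∃ w ∈ linB, Aff.evw Aff.affB w = ⟨0, 0, p, q, s, u⟩ := by decide +kernel

theorem wordsA_lt : ∀ v ∈ vecA, ∀ w ∈ linA, ∀ x ∈ v ++ w, x < 10 := by decide +kernel

theorem wordsB_lt : ∀ v ∈ vecB, ∀ w ∈ linB, ∀ x ∈ v ++ w, x < 10 := by decide +kernel

theorem Aff.evw_append (g : ℕ → Aff) (v w : List ℕ) : Aff.evw g (v ++ w) = Aff.evw g v * Aff.evw g w := by
  simp [Aff.evw]

theorem Aff.eq_tr_mul (X : Aff) : X = Aff.tr (X.r1, X.r2) * ⟨0, 0, X.p, X.q, X.s, X.u⟩ := by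
  ext <;> simp [Aff.tr, Aff.mul_def]

namespace Frame

variable (F : Frame G)

/-- Every element of the first side is given by one of the listed words. -/
theorem exists_wordA {u : G} (hu : u ∈ F.A) :
    ∃ v ∈ vecA, ∃ w ∈ linA, ev F.gvG ((v ++ w).flatMap expA) = u ∧
      Aff.evw Aff.affA (v ++ w) = F.rA u := by
  obtain ⟨v, hv, hv'⟩ := vecA_spec ((F.rA u).r1, (F.rA u).r2)
  obtain ⟨w, hw, hw'⟩ := linA_spec (F.rA u).p (F.rA u).q (F.rA u).s (F.rA u).u (F.detA u hu)
  have e : Aff.evw Aff.affA (v ++ w) = F.rA u := by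
    rw [Aff.evw_append, hv', hw', ← Aff.eq_tr_mul]
  refine ⟨v, hv, w, hw, ?_, e⟩
  rw [F.ev_expA _ (wordsA_lt v hv w hw)]
  exact F.injA _ (F.evA _).1 _ hu ((F.evA _).2.trans e)

/-- Every element of the second side is given by one of the listed words. -/
theorem exists_wordB {u : G} (hu : u ∈ F.B) :
    ∃ w : List ℕ, (∀ x ∈ w, x < 10) ∧ ev F.gvG (w.flatMap expB) = u := by
  obtain ⟨v, hv, hv'⟩ := vecB_spec ((F.rB u).r1, (F.rB u).r2)
  obtain ⟨w, hw, hw'⟩ := linB_spec (F.rB u).p (F.rB u).q (F.rB u).s (F.rB u).u (F.detB u hu)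
  refine ⟨v ++ w, wordsB_lt v hv w hw, ?_⟩
  rw [F.ev_expB _ (wordsB_lt v hv w hw)]
  refine F.injB _ (F.evB _).1 _ hu ((F.evB _).2.trans ?_)
  rw [Aff.evw_append, hv', hw', ← Aff.eq_tr_mul]

theorem exp_lt : ∀ x < 10, (∀ y ∈ expA x, y < 14) ∧ ∀ y ∈ expB x, y < 14 := by decide

/-- The letters generate. -/
theorem closure_letters : closure (F.gvG '' Set.Iio 14) = ⊤ := by
  rw [eq_top_iff, ← F.gen]
  have key : ∀ w : List ℕ, (∀ x ∈ w, x < 14) → ev F.gvG w ∈ closure (F.gvG '' Set.Iio 14) :=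
    fun w hw => ev_mem fun x hx => subset_closure ⟨x, hw x hx, rfl⟩
  refine sup_le (fun u hu => ?_) (fun u hu => ?_)
  · obtain ⟨v, hv, w, hw, e, -⟩ := F.exists_wordA hu
    rw [← e]
    refine key _ fun y hy => ?_
    obtain ⟨x, hx, hy⟩ := List.mem_flatMap.1 hy
    exact (exp_lt x (wordsA_lt v hv w hw x hx)).1 y hy
  · obtain ⟨w, hw, e⟩ := F.exists_wordB hu
    rw [← e]
    refine key _ fun y hy => ?_
    obtain ⟨x, hx, hy⟩ := List.mem_flatMap.1 hy
    exact (exp_lt x (hw x hx)).2 y hy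

theorem invLetter_lt : ∀ x < 14, invLetter 14 x < 14 := by decide +kernel

/-- A certificate bounding the index of the first side by one is absurd. -/
theorem false_of_cert {C : Cert} {nE : ℕ} (hk : C.k = 14) (hsteps : C.SStepsOK 0 nE)
    (hrows : C.SRowsOK nE 1 0 1) (hzero : C.rowNode 0 = 0) (extra : List (List ℕ)) (hsub : C.subs = subA)
    (hr : ∀ w ∈ C.rels, w ∈ (baseRels ++ extra).map (freeReduce 14))
    (hex : ∀ w ∈ extra, ev F.gvG w = 1) : False := by
  have hg : ∀ x, F.gvG (invLetter C.k x) = (F.gvG x)⁻¹ := hk ▸ F.gvG_inv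
  have h := Cert.index_le_signed hsteps hrows hzero Nat.one_pos F.gvG hg (hk ▸ gv_empty _ _ _ _ _ _ _)
    (hk ▸ invLetter_lt) (hk ▸ F.closure_letters)
    (fun w hw => by
      obtain ⟨v, hv, rfl⟩ := List.mem_map.1 (hr w hw)
      rw [← hk, ev_freeReduce C hg]
      rcases List.mem_append.1 hv with hv | hv
      · exact F.baseRels_one v hv
      · exact hex v hv)
    F.A (hsub ▸ F.subA_mem)
  exact F.ne_top (index_eq_one.1 (by omega))

theorem e_ne_h : F.e ≠ F.h := fun h => by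
  refine F.false_of_cert rfl SevenH.steps_ok SevenH.rows_ok (by decide +kernel) [[12, 5, 5]] (by decide)
    (by decide +kernel) fun w hw => ?_
  obtain rfl := List.mem_singleton.1 hw
  simp [ev, gvG, gv, h, F.h_eq, mul_assoc]

theorem e_ne_k : F.e ≠ F.k := fun h => by
  refine F.false_of_cert rfl SevenK.steps_ok SevenK.rows_ok (by decide +kernel) [[12, 7, 7]] (by decide)
    (by decide +kernel) fun w hw => ?_
  obtain rfl := List.mem_singleton.1 hw
  simp [ev, gvG, gv, h, F.k_eq, mul_assoc]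

theorem ev_ns : ev F.gvG (wcom [10] ws) = cm F.n F.s := by
  rw [ev_wcom F.gvG_inv, ev_n, ev_s]

theorem e_ne_t (b : Bool) (h1 : F.e = F.t) (h2 : cm F.n F.s = tv F b) : False := by
  have hex : ∀ w ∈ [[12] ++ wt true, wcom [10] ws ++ wt b], ev F.gvG w = 1 := by
    intro w hw
    simp only [List.mem_cons, List.not_mem_nil, or_false] at hw
    rcases hw with rfl | rfl
    · exact F.rel_one F.ev_e (b := true) h1
    · exact F.rel_one F.ev_ns h2
  cases b
  · exact F.false_of_cert rfl One0.steps_ok One0.rows_ok (by decide +kernel) _ (by decide) (by decide +kernel) hex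
  · exact F.false_of_cert rfl One1.steps_ok One1.rows_ok (by decide +kernel) _ (by decide) (by decide +kernel) hex

end Frame

end CfsgLib.Spor.GLTwoAmalgam
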